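import Cfsg.Agent.Lib.J2Cent.Bar
import Cfsg.Agent.Lib.J2Type.Small

/-!
The automiser of the image of the extraspecial subgroup is the alternating group of degree five.
-/

set_option autoImplicit false
set_option linter.style.longLine false
set_option linter.unusedSectionVars false
set_option linter.style.haveILetI false

open Cfsg

namespace CfsgLib.J2Cent

/-- the indices of the five distinguished points -/
def pI : Fin 5 → ℕ := ![2, 4, 8, 16, 30]

theorem pI_lt : ∀ j : Fin 5, pI j < 32 := by decide +kernel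

theorem pI_inj : ∀ j k : Fin 5, pI j / 2 = pI k / 2 → j = k := by decide +kernel

theorem pI_invol : ∀ j : Fin 5, inv2 (pI j) = true ∧ pI j ≠ 0 ∧ pI j ≠ 1 := by decide +kernel

theorem sing_ok : ((List.range 32).all fun i => !inv2 i || Nat.blt i 2 ||
    decide (∃ j : Fin 5, pI j / 2 = i / 2)) = true := by decide +kernel

theorem perm_ok : ((List.range 128).all fun p => decide (∃ σ ∈ ([1, A8ThreeClass.v1, A8ThreeClass.v2, A8ThreeClass.v3] :
    List (Equiv.Perm (Fin 5))), ∀ j, cjT p (pI j) / 2 = pI (σ j) / 2)) = true := by decide +kernel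

theorem move_ok : ∀ j : Fin 5, j ≠ 4 → ((List.range 128).any fun p => cjT p (pI 0) / 2 == pI j / 2) = true := by
  decide +kernel

theorem onto_four : ((List.range 128).all fun p => Nat.blt p 32 ||
    decide (∃ j : Fin 5, cjT p (pI j) / 2 ≠ pI j / 2)) = true := by decide +kernel

theorem gen_ok : ((List.range 16).all fun k => k == 0 || decide (∃ j : Fin 5,
    Nat.xor k (pI j / 2) < k ∧ mT (2 * Nat.xor k (pI j / 2)) (pI j) / 2 = k)) = true := by decide +kernel

theorem no_index_three {H : Subgroup ↥(alternatingGroup (Fin 5))} (h : 20 ≤ Nat.card H) : H = ⊤ := by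
  by_cases h30 : 30 ≤ Nat.card H
  · exact J2Type.alt5_eq_top h30
  haveI : IsSimpleGroup ↥(alternatingGroup (Fin 5)) := alternatingGroup.isSimpleGroup_five
  have hm := H.card_mul_index
  rw [J2Type.card_alt5] at hm
  have hi : H.index ≤ 3 := by nlinarith
  rcases (Subgroup.normalCore_normal H).eq_bot_or_eq_top with e | e
  · exfalso
    rw [Subgroup.normalCore_eq_ker, MonoidHom.ker_eq_bot_iff] at e
    have hc := Nat.card_le_card_of_injective _ e
    rw [J2Type.card_alt5, Nat.card_perm, ← Subgroup.index] at hc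
    have : H.index.factorial ≤ (3 : ℕ).factorial := Nat.factorial_le hi
    simp only [Nat.factorial] at this
    omega
  · exact top_le_iff.1 (e ▸ Subgroup.normalCore_le H)

namespace Bar

variable {G H : Type*} [Group G] [Group H] [Finite G] [Finite H] {φ : ℕ → G} {S : Sylow 2 G}
  {π : G →* H} (K : Tab φ (S : Subgroup G)) (B : Bar φ π)
include K B

/-- the five distinguished points -/
noncomputable def pt (π : G →* H) (φ : ℕ → G) (j : Fin 5) : H := π (φ (pI j))

theorem pt_mem (j : Fin 5) : pt π φ j ∈ eBar K π := (mem_eBar K).2 ⟨_, pI_lt j, rfl⟩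

theorem pt_inj {j k : Fin 5} (h : pt π φ j = pt π φ k) : j = k :=
  pI_inj j k ((eq_iff K B (by have := pI_lt j; omega) (by have := pI_lt k; omega)).1 h)

theorem exists_pt {x : H} (hx : x ∈ eBar K π) {y : G} (hy : π y = x) (h2 : y * y = 1) (h1 : x ≠ 1) :
    ∃ j, pt π φ j = x := by
  obtain ⟨i, hi, e⟩ := (mem_eBar K).1 hx
  have hi2 : φ i * φ i = 1 ∧ i ≠ 0 ∧ i ≠ 1 := by
    refine ⟨?_, fun h => ?_, fun h => ?_⟩
    · rcases (B.ker (y * (φ i)⁻¹)).1 (by rw [map_mul, map_inv, e, hy, mul_inv_cancel]) with h | h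
      · rw [← mul_inv_eq_one.1 h]; exact h2
      · have hy' : y = φ 1 * φ i := mul_inv_eq_iff_eq_mul.1 h
        rw [hy', ← K.mul 1 (by norm_num) i (by omega), ← K.mul _ (mT_lt (by norm_num) (by omega)) _ (mT_lt (by norm_num) (by omega))] at h2
        have hsh : ((List.range 32).all fun i => mT (mT 1 i) (mT 1 i) == mT i i) = true := by decide +kernel
        simp only [List.all_eq_true, List.mem_range, beq_iff_eq] at hsh
        rw [hsh i hi, K.mul i (by omega) i (by omega)] at h2
        exact h2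
    · exact h1 (by rw [← e, h, K.one, map_one])
    · exact h1 (by rw [← e, h]; exact (B.ker _).2 (Or.inr rfl))
  have hs := sing_ok
  simp only [List.all_eq_true, List.mem_range, Bool.or_eq_true, Bool.not_eq_true', Nat.blt_eq, decide_eq_true_eq] at hs
  rcases hs i hi with (h | h) | ⟨j, hj⟩
  · rw [(K.sq_one_iff (by omega)).1 hi2.1] at h; exact Bool.noConfusion h
  · omega
  · exact ⟨j, by rw [← e]; exact (eq_iff K B (by have := pI_lt j; omega) (by omega)).2 hj⟩

theorem conj_pt (n : ↥(Subgroup.normalizer (eBar K π : Set H))) (j : Fin 5) :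
    ∃ k, pt π φ k = (n : H) * pt π φ j * (n : H)⁻¹ := by
  obtain ⟨c, hc⟩ := B.surj n
  refine exists_pt K B ((Subgroup.mem_normalizer_iff.1 n.2 _).1 (pt_mem K B j)) (y := c * φ (pI j) * c⁻¹)
    (by rw [map_mul, map_mul, map_inv, hc]; rfl) ?_ ?_
  · rw [show c * φ (pI j) * c⁻¹ * (c * φ (pI j) * c⁻¹) = c * (φ (pI j) * φ (pI j)) * c⁻¹ by group,
      (K.sq_one_iff (by have := pI_lt j; omega)).2 (pI_invol j).1]
    group
  · intro e
    rcases (B.ker _).1 (conj_eq_one_iff.1 e) with h | h
    · exact (pI_invol j).2.1 ((K.eq_one_iff (by have := pI_lt j; omega)).1 h)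
    · exact (pI_invol j).2.2 (K.inj _ (by have := pI_lt j; omega) 1 (by norm_num) h)

/-- the permutation of the five points -/
theorem exists_q : ∃ q : ↥(Subgroup.normalizer (eBar K π : Set H)) →* Equiv.Perm (Fin 5),
    ∀ (n : ↥(Subgroup.normalizer (eBar K π : Set H))) (j : Fin 5), (n : H) * pt π φ j * (n : H)⁻¹ = pt π φ (q n j) := by
  classical
  choose σ hσ using conj_pt K B
  have hinj : ∀ n, Function.Injective (σ n) := fun n a b h => pt_inj K B (by
    have := (hσ n a).symm.trans ((congrArg (pt π φ) h).trans (hσ n b))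
    exact mul_left_cancel (mul_right_cancel this))
  refine ⟨MonoidHom.mk' (fun n => Equiv.ofBijective (σ n) (Finite.injective_iff_bijective.1 (hinj n)))
    (fun a b => Equiv.ext fun j => pt_inj K B ?_), fun n j => (hσ n j).symm⟩
  show pt π φ (σ (a * b) j) = pt π φ (σ a (σ b j))
  rw [hσ, hσ, hσ, Subgroup.coe_mul]; group

variable {q : ↥(Subgroup.normalizer (eBar K π : Set H)) →* Equiv.Perm (Fin 5)}
  (hq : ∀ (n : ↥(Subgroup.normalizer (eBar K π : Set H))) (j : Fin 5), (n : H) * pt π φ j * (n : H)⁻¹ = pt π φ (q n j))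
include hq

/-- the permutations induced by the Sylow subgroup -/
theorem q_S {r : H} (hr : r ∈ (S.mapSurjective B.surj : Subgroup H)) :
    q ⟨r, S_le_normalizer K B hr⟩ ∈ A8ThreeClass.four := by
  obtain ⟨p, hp, rfl⟩ := surj_S K B hr
  have h := perm_ok
  simp only [List.all_eq_true, List.mem_range, decide_eq_true_eq] at h
  obtain ⟨σ, hσ, hj⟩ := h p hp
  have e : q ⟨π (φ p), S_le_normalizer K B hr⟩ = σ := Equiv.ext fun j => pt_inj K B (by
    rw [← hq]
    show π (φ p) * π (φ (pI j)) * (π (φ p))⁻¹ = π (φ (pI (σ j)))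
    rw [← map_mul, ← map_inv, ← map_mul, ← K.conj_eq hp (by have := pI_lt j; omega),
      eq_iff K B (cjT_lt hp (by have := pI_lt j; omega)) (by have := pI_lt (σ j); omega), hj])
  rw [e, A8ThreeClass.mem_four]
  simpa using hσ

theorem q_sign (n : ↥(Subgroup.normalizer (eBar K π : Set H))) : Equiv.Perm.sign (q n) = 1 := by
  haveI := Fact.mk Nat.prime_two
  by_contra hne
  have h1 : Equiv.Perm.sign (q n) = -1 := (Int.units_eq_one_or _).resolve_left hne
  obtain ⟨a, m, hm, he⟩ := Nat.exists_eq_two_pow_mul_odd (orderOf_pos n).ne'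
  have hs : Equiv.Perm.sign (q (n ^ m)) = -1 := by rw [map_pow, map_pow, h1, hm.neg_one_pow]
  obtain ⟨c, hc, hcm⟩ := M24Syl.into_of_sylow (S.mapSurjective B.surj) (S_le_normalizer K B)
    (Subgroup.zpowers ((n ^ m : ↥(Subgroup.normalizer (eBar K π : Set H))) : H))
    (Subgroup.zpowers_le.2 (n ^ m).2) (Transfer.isPGroup_zpowers ⟨a, by
      rw [Subgroup.orderOf_coe, orderOf_pow' n (by rintro rfl; simp at hm), he, Nat.gcd_mul_left_left,
        Nat.mul_div_cancel _ (Nat.pos_of_ne_zero (by rintro rfl; simp at hm))]⟩)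
  have hr := hcm _ (Subgroup.mem_zpowers _)
  have h4 := (A8ThreeClass.four_fix _ (A8ThreeClass.mem_four.1 (q_S K B hq hr))).2.1
  rw [show (⟨_, S_le_normalizer K B hr⟩ : ↥(Subgroup.normalizer (eBar K π : Set H))) =
    ⟨c, hc⟩ * n ^ m * ⟨c, hc⟩⁻¹ from rfl, map_mul, map_mul, map_inv, map_mul, map_mul, map_inv,
    mul_inv_cancel_comm, hs] at h4
  exact absurd h4 (by decide)

/-- an element centralising the points centralises the subgroup -/
theorem cent_of_q {n : ↥(Subgroup.normalizer (eBar K π : Set H))} (hn : q n = 1) {a : H} (ha : a ∈ eBar K π) :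
    (n : H) * a = a * (n : H) := by
  obtain ⟨i, hi, rfl⟩ := (mem_eBar K).1 ha
  have key : ∀ k < 16, (n : H) * π (φ (2 * k)) = π (φ (2 * k)) * (n : H) := by
    intro k
    induction k using Nat.strong_induction_on with
    | _ k ih =>
      intro hk
      have h := gen_ok
      simp only [List.all_eq_true, List.mem_range, Bool.or_eq_true, beq_iff_eq, decide_eq_true_eq] at h
      rcases h k hk with rfl | ⟨j, hlt, hj⟩
      · rw [Nat.mul_zero, K.one, map_one, mul_one, one_mul]
      · have e : π (φ (2 * k)) = π (φ (2 * Nat.xor k (pI j / 2))) * pt π φ j := by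
          rw [pt, ← map_mul, ← K.mul _ (by omega) _ (by have := pI_lt j; omega),
            eq_iff K B (by omega) (mT_lt (by omega) (by have := pI_lt j; omega)), hj]
          omega
        have h2 : (n : H) * pt π φ j = pt π φ j * (n : H) := by
          have := hq n j
          rw [hn, Equiv.Perm.one_apply] at this
          exact mul_inv_eq_iff_eq_mul.1 this
        rw [e, ← mul_assoc, ih _ hlt (by omega), mul_assoc, h2, ← mul_assoc]
  rw [show π (φ i) = π (φ (2 * (i / 2))) from (eq_iff K B (by omega) (by omega)).2 (by omega)]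
  exact key _ (by omega)

theorem q_one_of_cent {n : ↥(Subgroup.normalizer (eBar K π : Set H))}
    (hn : ∀ a ∈ eBar K π, (n : H) * a = a * (n : H)) : q n = 1 :=
  Equiv.ext fun j => pt_inj K B (by rw [← hq, hn _ (pt_mem K B j), mul_inv_cancel_right]; rfl)

/-- the centraliser is the subgroup times a group of odd order -/
theorem ker_eq {n : ↥(Subgroup.normalizer (eBar K π : Set H))} (hn : q n = 1) :
    ∃ o ∈ oddCore ↥(Subgroup.normalizer (eBar K π : Set H)), ∃ a ∈ eBar K π, (n : H) = (o : H) * a := by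
  haveI := Fact.mk Nat.prime_two
  set C := Subgroup.centralizer ((eBar K π) : Set H) with hC
  have hAC : (eBar K π) ≤ C := fun a ha b hb => eBar_comm K B hb ha
  -- a 2-subgroup of the centraliser lies in `(eBar K π)`
  have htwo : ∀ Q : Subgroup H, Q ≤ C → IsPGroup 2 Q → Q ≤ (eBar K π) := by
    intro Q hQC hQ
    have hP : IsPGroup 2 ↥(Q ⊔ (eBar K π)) := hQ.to_sup_of_normal_right'
      ((S.mapSurjective B.surj).2.to_le (eBar_le K B)) (fun x hx => A8ThreeClass.mem_normalizer_of_conj fun a ha => by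
        rw [← hQC hx a ha, mul_inv_cancel_right]; exact ha)
    obtain ⟨d, -, hd⟩ := M24Syl.into_top (S.mapSurjective B.surj) _ le_top hP
    have hdN : d ∈ (Subgroup.normalizer (eBar K π : Set H)) := eBar_map_eq K B fun a ha => hd a (Subgroup.mem_sup_right ha)
    intro x hx
    have hx' := hd x (Subgroup.mem_sup_left hx)
    obtain ⟨p, hp, hpe⟩ := surj_S K B hx'
    have hp32 : p < 32 := by
      have h := onto_four
      simp only [List.all_eq_true, List.mem_range, Bool.or_eq_true, Nat.blt_eq, decide_eq_true_eq] at h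
      refine (h p hp).resolve_right fun ⟨j, hj⟩ => hj ?_
      rw [← eq_iff K B (cjT_lt hp (by have := pI_lt j; omega)) (by have := pI_lt j; omega),
        K.conj_eq hp (by have := pI_lt j; omega), map_mul, map_mul, map_inv, hpe]
      have hc : (d⁻¹ * pt π φ j * d) * x = x * (d⁻¹ * pt π φ j * d) := hQC hx _ (by
        have := (Subgroup.mem_normalizer_iff.1 (inv_mem hdN) _).1 (pt_mem K B j)
        rw [inv_inv] at this; exact this)
      calc d * x * d⁻¹ * π (φ (pI j)) * (d * x * d⁻¹)⁻¹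
          = d * (x * (d⁻¹ * pt π φ j * d)) * x⁻¹ * d⁻¹ := by rw [pt]; group
        _ = d * ((d⁻¹ * pt π φ j * d) * x) * x⁻¹ * d⁻¹ := by rw [hc]
        _ = π (φ (pI j)) := by rw [pt]; group
    have : d * x * d⁻¹ ∈ (eBar K π) := (mem_eBar K).2 ⟨p, hp32, hpe⟩
    exact (Subgroup.mem_normalizer_iff.1 hdN x).2 this
  have hCn : (C.subgroupOf (Subgroup.normalizer (eBar K π : Set H))).Normal := ⟨fun x hx g => Subgroup.mem_centralizer_iff.2 fun a ha => by
    have ha' : (g : H)⁻¹ * a * g ∈ (eBar K π) := by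
      have := (Subgroup.mem_normalizer_iff.1 (inv_mem g.2) a).1 ha
      rwa [inv_inv] at this
    have hx' : (g : H)⁻¹ * a * g * (x : H) = (x : H) * ((g : H)⁻¹ * a * g) :=
      Subgroup.mem_centralizer_iff.1 hx _ ha'
    show a * ((g : H) * (x : H) * (g : H)⁻¹) = (g : H) * (x : H) * (g : H)⁻¹ * a
    calc a * ((g : H) * (x : H) * (g : H)⁻¹) = (g : H) * (((g : H)⁻¹ * a * g) * (x : H)) * (g : H)⁻¹ := by group
      _ = (g : H) * ((x : H) * ((g : H)⁻¹ * a * g)) * (g : H)⁻¹ := by rw [hx']
      _ = _ := by group⟩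
  obtain ⟨R⟩ : Nonempty (Sylow 2 ↥(C.subgroupOf (Subgroup.normalizer (eBar K π : Set H)))) := inferInstance
  have hnpc := Transfer.hasNormalPComplement_of_central R (fun r hr => Subgroup.mem_center_iff.2 fun g => by
    have hrA : ((r : (Subgroup.normalizer (eBar K π : Set H))) : H) ∈ (eBar K π) :=
      htwo (((R : Subgroup ↥(C.subgroupOf (Subgroup.normalizer (eBar K π : Set H)))).map (C.subgroupOf (Subgroup.normalizer (eBar K π : Set H))).subtype).map (Subgroup.normalizer (eBar K π : Set H)).subtype)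
        (by rintro _ ⟨_, ⟨y, -, rfl⟩, rfl⟩; exact y.2) ((R.2.map _).map _) ⟨r, ⟨r, hr, rfl⟩, rfl⟩
    exact Subtype.ext (Subtype.ext (Subgroup.mem_centralizer_iff.1 g.2 _ hrA).symm))
  obtain ⟨o, ho, c, hc, hc2, e⟩ := mem_core_mul hCn hnpc
    (x := n) (show n ∈ C.subgroupOf (Subgroup.normalizer (eBar K π : Set H)) from fun a ha => (cent_of_q K B hq hn ha).symm)
  refine ⟨o, ho, (c : H), htwo _ (Subgroup.zpowers_le.2 hc) (Transfer.isPGroup_zpowers (by
    simpa [Subgroup.orderOf_coe] using hc2)) (Subgroup.mem_zpowers _), congrArg Subtype.val e⟩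

/-- the odd core centralises the subgroup -/
theorem core_q {o : ↥(Subgroup.normalizer (eBar K π : Set H))}
    (ho : o ∈ oddCore ↥(Subgroup.normalizer (eBar K π : Set H))) : q o = 1 := by
  haveI := Fact.mk Nat.prime_two
  refine q_one_of_cent K B hq fun a ha => ?_
  haveI hA : ((eBar K π).subgroupOf (Subgroup.normalizer (eBar K π : Set H))).Normal := Subgroup.normal_subgroupOf_of_le_normalizer le_rfl
  have hd : Disjoint ((eBar K π).subgroupOf (Subgroup.normalizer (eBar K π : Set H))) (oddCore ↥(Subgroup.normalizer (eBar K π : Set H))) := by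
    rw [disjoint_iff, ← Subgroup.card_eq_one]
    refine Nat.eq_one_of_dvd_coprimes (a := 2 ^ 4) (b := Nat.card (oddCore ↥(Subgroup.normalizer (eBar K π : Set H))))
      ((Nat.coprime_comm.1 (Transfer.pPrimeCore_coprime 2)).pow_left 4) ?_ (Subgroup.card_dvd_of_le inf_le_right)
    have := Subgroup.card_dvd_of_le (inf_le_left : (eBar K π).subgroupOf (Subgroup.normalizer (eBar K π : Set H)) ⊓ oddCore ↥(Subgroup.normalizer (eBar K π : Set H)) ≤ _)
    rw [Nat.card_congr (Subgroup.subgroupOfEquivOfLe Subgroup.le_normalizer).toEquiv, eBar_card K B] at this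
    exact this
  have := Subgroup.commute_of_normal_of_disjoint _ _ hA (Transfer.pPrimeCore_normal 2 _) hd
    ⟨a, Subgroup.le_normalizer ha⟩ o (show (⟨a, _⟩ : (Subgroup.normalizer (eBar K π : Set H))) ∈ (eBar K π).subgroupOf (Subgroup.normalizer (eBar K π : Set H)) from ha) ho
  exact (congrArg Subtype.val this.eq).symm

/-- transitivity, given the fusion -/
theorem range_top (hf : ∃ c : G, c * φ 2 * c⁻¹ = φ 30 ∨ c * φ 2 * c⁻¹ = φ 31) :
    q.range = alternatingGroup (Fin 5) := by
  haveI := Fact.mk Nat.prime_two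
  have hle : q.range ≤ alternatingGroup (Fin 5) := by
    rintro _ ⟨n, rfl⟩; exact Equiv.Perm.mem_alternatingGroup.2 (q_sign K B hq n)
  have hcen : ∀ j, pt π φ j ∈ Subgroup.centralizer (eBar K π : Set H) :=
    fun j a ha => eBar_comm K B ha (pt_mem K B j)
  obtain ⟨c, hc⟩ := hf
  have h04 : π c * pt π φ 0 * (π c)⁻¹ = pt π φ 4 := by
    rw [pt, ← map_mul, ← map_inv, ← map_mul, show pI 0 = 2 from rfl, show pt π φ 4 = π (φ 30) from rfl]
    rcases hc with e | e <;> rw [e]
    exact (eq_iff K B (by norm_num) (by norm_num)).2 (by norm_num)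
  obtain ⟨m, hm, hme⟩ := Transfer.exists_normalizer_conj_of_weaklyClosed (S.mapSurjective B.surj)
    (eBar_isWeaklyClosed K B) (π c) (hcen 0) (h04 ▸ hcen 4)
  have hm4 : q ⟨m, hm⟩ 0 = 4 := pt_inj K B (by rw [← hq]; exact hme.trans h04)
  have htrans : ∀ j, ∃ n, q n 0 = j := by
    intro j
    by_cases hj : j = 4
    · exact ⟨_, hj ▸ hm4⟩
    have h := move_ok j hj
    simp only [List.any_eq_true, List.mem_range, beq_iff_eq] at h
    obtain ⟨p, hp, hpj⟩ := h
    refine ⟨⟨π (φ p), S_le_normalizer K B (mem_S K B hp)⟩, pt_inj K B ?_⟩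
    rw [← hq]
    show π (φ p) * π (φ (pI 0)) * (π (φ p))⁻¹ = π (φ (pI j))
    rw [← map_mul, ← map_inv, ← map_mul, ← K.conj_eq hp (by decide +kernel),
      eq_iff K B (cjT_lt hp (by decide +kernel)) (by have := pI_lt j; omega), hpj]
  have h5 : 5 ∣ Nat.card q.range := by
    haveI : MulAction.IsPretransitive q.range (Fin 5) := ⟨fun a b => by
      obtain ⟨n, hn⟩ := htrans a
      obtain ⟨m, hm⟩ := htrans b
      refine ⟨⟨q (m * n⁻¹), _, rfl⟩, ?_⟩
      show q (m * n⁻¹) a = b
      rw [map_mul, map_inv, Equiv.Perm.mul_apply, ← hn, Equiv.Perm.inv_eq_iff_eq.2 rfl, hm]⟩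
    have := MulAction.index_stabilizer_of_transitive q.range (0 : Fin 5)
    rw [Nat.card_fin] at this
    calc 5 = (MulAction.stabilizer q.range (0 : Fin 5)).index := this.symm
      _ ∣ _ := Subgroup.index_dvd_card _
  have h4 : 4 ∣ Nat.card q.range := by
    have hfour : A8ThreeClass.four ≤ q.range := by
      intro σ hσ
      have hj : ∀ σ : Equiv.Perm (Fin 5), (σ = 1 ∨ σ = A8ThreeClass.v1 ∨ σ = A8ThreeClass.v2 ∨ σ = A8ThreeClass.v3) →
        ∀ τ : Equiv.Perm (Fin 5), (τ = 1 ∨ τ = A8ThreeClass.v1 ∨ τ = A8ThreeClass.v2 ∨ τ = A8ThreeClass.v3) →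
        τ 0 = σ 0 → τ = σ := by decide +kernel
      have h0 : σ 0 ≠ 4 := by
        have : ∀ σ : Equiv.Perm (Fin 5), (σ = 1 ∨ σ = A8ThreeClass.v1 ∨ σ = A8ThreeClass.v2 ∨ σ = A8ThreeClass.v3) →
          σ 0 ≠ 4 := by decide +kernel
        exact this σ (A8ThreeClass.mem_four.1 hσ)
      have h := move_ok (σ 0) h0
      simp only [List.any_eq_true, List.mem_range, beq_iff_eq] at h
      obtain ⟨p, hp, hpj⟩ := h
      refine ⟨⟨π (φ p), S_le_normalizer K B (mem_S K B hp)⟩,
        hj σ (A8ThreeClass.mem_four.1 hσ) _ (A8ThreeClass.mem_four.1 (q_S K B hq (mem_S K B hp))) (pt_inj K B ?_)⟩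
      rw [← hq]
      show π (φ p) * π (φ (pI 0)) * (π (φ p))⁻¹ = π (φ (pI (σ 0)))
      rw [← map_mul, ← map_inv, ← map_mul, ← K.conj_eq hp (by decide +kernel),
        eq_iff K B (cjT_lt hp (by decide +kernel)) (by have := pI_lt (σ 0); omega), hpj]
    exact A8ThreeClass.four_card ▸ Subgroup.card_dvd_of_le hfour
  refine le_antisymm hle fun σ hσ => ?_
  have h20 : 20 ≤ Nat.card (q.range.subgroupOf (alternatingGroup (Fin 5))) := by
    rw [Nat.card_congr (Subgroup.subgroupOfEquivOfLe hle).toEquiv]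
    exact Nat.le_of_dvd Nat.card_pos (Nat.Coprime.mul_dvd_of_dvd_of_dvd (by norm_num : Nat.Coprime 4 5) h4 h5)
  exact (Subgroup.subgroupOf_eq_top.1 (no_index_three h20)) hσ

end Bar

end CfsgLib.J2Cent
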