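import Cfsg.Agent.Lib.Transfer.Basic
import Cfsg.Agent.Lib.Transfer.Focal
import Cfsg.Prelude.Def_CaseTheorems

/-!
A normal subgroup with a normal 2-complement, inside the whole group.
-/

set_option autoImplicit false
set_option linter.style.haveILetI false

open Cfsg

namespace CfsgLib.J2Cent

variable {G : Type*} [Group G] [Finite G]

theorem mem_core_mul {L : Subgroup G} (hL : L.Normal) (h : HasNormalPComplement 2 L) {x : G} (hx : x ∈ L) :
    ∃ o ∈ oddCore G, ∃ c ∈ L, (∃ k, orderOf c = 2 ^ k) ∧ x = o * c := by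
  haveI := Fact.mk Nat.prime_two
  obtain ⟨P, N₀, hN₀, hcp⟩ := h
  haveI := hN₀
  have hq := Transfer.isPGroup_quotient_of_isComplement' hcp
  have hco := Transfer.coprime_card_of_isComplement' hcp
  obtain ⟨w, hw, p, hp, e⟩ := Subgroup.mem_sup_of_normal_left.1
    (show (⟨x, hx⟩ : L) ∈ N₀ ⊔ (P : Subgroup L) from hcp.sup_eq_top ▸ Subgroup.mem_top _)
  obtain ⟨j, hj⟩ := IsPGroup.iff_orderOf.1 P.2 ⟨p, hp⟩
  rw [← Subgroup.orderOf_coe, ← Subgroup.orderOf_coe] at hj
  set U : Subgroup G := N₀.map L.subtype with hU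
  have hUn : U.Normal := by
    refine ⟨?_⟩
    rintro _ ⟨u, hu, rfl⟩ g
    have hm : g * (u : G) * g⁻¹ ∈ L := hL.conj_mem _ u.2 g
    refine ⟨⟨_, hm⟩, (Transfer.mem_iff_coprime_orderOf hco hq).2 ?_, rfl⟩
    rw [← Subgroup.orderOf_coe]
    show (orderOf (g * (u : G) * g⁻¹)).Coprime 2
    rw [Transfer.orderOf_conj, Subgroup.orderOf_coe]
    exact Transfer.coprime_orderOf_of_mem hco hu
  refine ⟨w, Transfer.le_pPrimeCore hUn ?_ ⟨w, hw, rfl⟩, (p : G), p.2, ⟨j, hj⟩, (congrArg Subtype.val e).symm⟩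
  rw [hU, Subgroup.card_map_of_injective L.subtype_injective]
  exact hco

theorem eq_of_two_pow {x : G} (h : ∃ k, orderOf x = 2 ^ k) (ho : Odd (orderOf x)) : x = 1 := by
  obtain ⟨k, hk⟩ := h
  rcases Nat.eq_zero_or_pos k with rfl | hk0
  · exact orderOf_eq_one_iff.1 hk
  · rw [hk] at ho
    exact absurd ho (Nat.not_odd_iff_even.2 (Nat.even_pow.2 ⟨even_two, by omega⟩))

end CfsgLib.J2Cent
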