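import Cfsg.Agent.Lib.J2Cent.Outside
import Cfsg.Agent.Lib.J2Cent.Npc
import Cfsg.Agent.Lib.A8ThreeClass.Main

/-!
The quotient of the centraliser by the central involution: its Sylow 2-subgroup is that of the alternating
group of degree eight and the image of the extraspecial subgroup is weakly closed.
-/

set_option autoImplicit false
set_option linter.style.longLine false
set_option linter.unusedSectionVars false
set_option linter.style.haveILetI false

open Cfsg

namespace CfsgLib.J2Cent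

theorem half_ok : ((List.range 128).all fun i => mT 1 i / 2 == i / 2 && !(mT 1 i == i)) = true := by decide +kernel

theorem rho_ok : ((List.range 64).all fun k => rho (2 * invRho k) == k && Nat.blt (invRho k) 64) = true ∧
    ((List.range 128).all fun i => invRho (rho i) == i / 2 && Nat.blt (rho i) 64) = true := by decide +kernel

theorem rho_mul_ok : ((List.range 64).all fun k => (List.range 64).all fun l =>
    mT (2 * invRho k) (2 * invRho l) / 2 == invRho (A8Syl.mS k l)) = true := by decide +kernel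

theorem low_sub : ∀ i < 128, Nat.blt i 32 = true →
    Nat.blt (invT i) 32 = true ∧ ∀ j < 128, Nat.blt j 32 = true → Nat.blt (mT i j) 32 = true := by
  intro i hi h
  have h' : ((List.range 32).all fun i => Nat.blt (invT i) 32 && (List.range 32).all fun j => Nat.blt (mT i j) 32)
    = true := by decide +kernel
  simp only [List.all_eq_true, List.mem_range, Bool.and_eq_true] at h'
  simp only [Nat.blt_eq] at h ⊢ h'
  exact ⟨(h' i h).1, fun j _ hj => (h' i h).2 j hj⟩

theorem low_facts : ((List.range 32).all fun i => Nat.blt (mT i i) 2 && (List.range 32).all fun j =>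
    mT i j / 2 == mT j i / 2) = true := by decide +kernel

theorem high_count : ((List.range 128).all fun i => Nat.blt i 32 || !Nat.blt (mT i i) 2 ||
    Nat.blt (((List.range 64).filter fun k => Nat.blt (mT (2 * k) (2 * k)) 2 &&
      mT i (2 * k) / 2 == mT (2 * k) i / 2).length) 16) = true := by decide +kernel

/-- `π` is the quotient by the central involution. -/
structure Bar {G H : Type*} [Group G] [Group H] (φ : ℕ → G) (π : G →* H) : Prop where
  surj : Function.Surjective π
  ker : ∀ x, π x = 1 ↔ x = 1 ∨ x = φ 1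

namespace Bar

variable {G H : Type*} [Group G] [Group H] [Finite G] [Finite H] {φ : ℕ → G} {S : Sylow 2 G}
  {π : G →* H} (K : Tab φ (S : Subgroup G)) (B : Bar φ π)
include K B

theorem eq_iff {i j : ℕ} (hi : i < 128) (hj : j < 128) : π (φ i) = π (φ j) ↔ i / 2 = j / 2 := by
  have hh := half_ok
  simp only [List.all_eq_true, List.mem_range, Bool.and_eq_true, beq_iff_eq, Bool.not_eq_true', beq_eq_false_iff_ne] at hh
  have key : ∀ a b : G, π a = π b ↔ b = a ∨ b = φ 1 * a := fun a b => by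
    constructor
    · intro h
      rcases (B.ker (b * a⁻¹)).1 (by rw [map_mul, map_inv, h, mul_inv_cancel]) with e | e
      · exact Or.inl (mul_inv_eq_one.1 e)
      · exact Or.inr (mul_inv_eq_iff_eq_mul.1 e)
    · rintro (rfl | rfl)
      · rfl
      · rw [map_mul, (B.ker _).2 (Or.inr rfl), one_mul]
  rw [key, ← K.mul 1 (by norm_num) i hi]
  constructor
  · rintro (h | h)
    · rw [K.inj _ hj _ hi h]
    · rw [K.inj _ hj _ (mT_lt (by norm_num) hi) h, (hh i hi).1]
  · intro h
    rcases Nat.decEq j i with e | e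
    · right
      have hm := (hh i hi)
      have : j = mT 1 i := by
        have h1 : mT 1 i / 2 = j / 2 := hm.1.trans h
        have h2 : mT 1 i ≠ i := hm.2
        omega
      rw [this]
    · exact Or.inl (by rw [e])

theorem sq_one_iff {i : ℕ} (hi : i < 128) : π (φ i) * π (φ i) = 1 ↔ mT i i < 2 := by
  rw [← map_mul, ← K.mul i hi i hi, ← map_one π, ← K.one, eq_iff K B (mT_lt hi hi) (by norm_num)]
  omega

theorem comm_iff {i j : ℕ} (hi : i < 128) (hj : j < 128) :
    π (φ i) * π (φ j) = π (φ j) * π (φ i) ↔ mT i j / 2 = mT j i / 2 := by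
  rw [← map_mul, ← map_mul, ← K.mul i hi j hj, ← K.mul j hj i hi, eq_iff K B (mT_lt hi hj) (mT_lt hj hi)]

theorem surj_S {x : H} (hx : x ∈ (S.mapSurjective B.surj : Subgroup H)) : ∃ i < 128, π (φ i) = x := by
  rw [Sylow.coe_mapSurjective] at hx
  obtain ⟨y, hy, rfl⟩ := hx
  obtain ⟨i, hi, rfl⟩ := K.surj y hy
  exact ⟨i, hi, rfl⟩

theorem mem_S {i : ℕ} (hi : i < 128) : π (φ i) ∈ (S.mapSurjective B.surj : Subgroup H) := by
  rw [Sylow.coe_mapSurjective]
  exact ⟨φ i, K.mem i hi, rfl⟩

/-- the Sylow 2-subgroups of the quotient are those of the alternating group of degree eight -/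
theorem sylow_type : ∀ Q : Sylow 2 H, ∀ P : Sylow 2 ↥(alternatingGroup (Fin 8)),
    Nonempty (↥(Q : Subgroup H) ≃* ↥(P : Subgroup ↥(alternatingGroup (Fin 8)))) := by
  haveI := Fact.mk Nat.prime_two
  intro Q P
  obtain ⟨ψ, hψ⟩ := A8Syl.exists_hyp (P : Subgroup ↥(alternatingGroup (Fin 8))) fun P' => ⟨Sylow.equiv P P'⟩
  obtain ⟨h1, h2⟩ := rho_ok
  have h3 := rho_mul_ok
  simp only [List.all_eq_true, List.mem_range, Bool.and_eq_true, beq_iff_eq, Nat.blt_eq] at h1 h2 h3
  set T := (S.mapSurjective B.surj : Sylow 2 H)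
  let f : Fin 64 → ↥(T : Subgroup H) := fun k => ⟨π (φ (2 * invRho k)),
    mem_S K B (by have := (h1 k k.2).2; omega)⟩
  let g : Fin 64 → ↥(P : Subgroup ↥(alternatingGroup (Fin 8))) := fun k => ⟨ψ k, hψ.mem k k.2⟩
  have hf : Function.Bijective f := by
    refine ⟨fun a b e => Fin.ext ?_, fun ⟨x, hx⟩ => ?_⟩
    · have := (eq_iff K B (by have := (h1 a a.2).2; omega) (by have := (h1 b b.2).2; omega)).1 (congrArg Subtype.val e)
      rw [← (h1 a a.2).1, ← (h1 b b.2).1, show invRho a = invRho b by omega]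
    · obtain ⟨i, hi, rfl⟩ := surj_S K B hx
      refine ⟨⟨rho i, (h2 i hi).2⟩, Subtype.ext ((eq_iff K B ?_ hi).2 ?_)⟩
      · show 2 * invRho (rho i) < 128
        rw [(h2 i hi).1]; omega
      · show 2 * invRho (rho i) / 2 = i / 2
        rw [(h2 i hi).1]; omega
  have hg : Function.Bijective g := by
    refine ⟨fun a b e => Fin.ext (hψ.inj a a.2 b b.2 (congrArg Subtype.val e)), fun ⟨x, hx⟩ => ?_⟩
    obtain ⟨i, hi, rfl⟩ := hψ.surj x hx
    exact ⟨⟨i, hi⟩, rfl⟩
  let e : ↥(T : Subgroup H) ≃ ↥(P : Subgroup ↥(alternatingGroup (Fin 8))) :=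
    (Equiv.ofBijective f hf).symm.trans (Equiv.ofBijective g hg)
  refine ⟨(Sylow.equiv Q T).trans (MulEquiv.mk e fun x y => ?_)⟩
  obtain ⟨a, rfl⟩ := hf.2 x
  obtain ⟨b, rfl⟩ := hf.2 y
  have hm : f a * f b = f ⟨A8Syl.mS a b, A8Syl.mS_lt a.2 b.2⟩ := by
    have ha := (h1 a a.2).2
    have hb := (h1 b b.2).2
    have hc := (h1 (A8Syl.mS a b) (A8Syl.mS_lt a.2 b.2)).2
    refine Subtype.ext ?_
    show π (φ (2 * invRho a)) * π (φ (2 * invRho b)) = π (φ (2 * invRho (A8Syl.mS a b)))
    rw [← map_mul, ← K.mul _ (by omega) _ (by omega), eq_iff K B (mT_lt (by omega) (by omega)) (by omega),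
      h3 a a.2 b b.2]
    omega
  have he : ∀ k, e (f k) = g k := fun k => by
    show Equiv.ofBijective g hg ((Equiv.ofBijective f hf).symm (Equiv.ofBijective f hf k)) = g k
    rw [Equiv.symm_apply_apply]; rfl
  show e (f a * f b) = e (f a) * e (f b)
  rw [hm, he, he, he]
  exact Subtype.ext (hψ.mul a a.2 b b.2)

omit B in
theorem card_low : Nat.card (K.sub fun i => Nat.blt i 32) = 32 := by
  rw [K.card_sub (by decide +kernel) low_sub]
  decide +kernel

/-- the image of the extraspecial subgroup -/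
def eBar (K : Tab φ (S : Subgroup G)) (π : G →* H) : Subgroup H := (K.sub fun i => Nat.blt i 32).map π

omit B in
theorem mem_eBar {x : H} : x ∈ eBar K π ↔ ∃ i < 32, π (φ i) = x := by
  constructor
  · rintro ⟨y, hy, rfl⟩
    obtain ⟨i, -, hi, rfl⟩ := (K.mem_sub (by decide +kernel) low_sub).1 hy
    exact ⟨i, by simpa using hi, rfl⟩
  · rintro ⟨i, hi, rfl⟩
    exact ⟨φ i, (K.mem_sub (by decide +kernel) low_sub).2 ⟨i, by omega, by simpa using hi, rfl⟩, rfl⟩

theorem eBar_sq {a : H} (ha : a ∈ eBar K π) : a * a = 1 := by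
  obtain ⟨i, hi, rfl⟩ := (mem_eBar K).1 ha
  have h := low_facts
  simp only [List.all_eq_true, List.mem_range, Bool.and_eq_true, Nat.blt_eq] at h
  exact (sq_one_iff K B (by omega)).2 (h i hi).1

theorem eBar_comm {a b : H} (ha : a ∈ eBar K π) (hb : b ∈ eBar K π) : a * b = b * a := by
  obtain ⟨i, hi, rfl⟩ := (mem_eBar K).1 ha
  obtain ⟨j, hj, rfl⟩ := (mem_eBar K).1 hb
  have h := low_facts
  simp only [List.all_eq_true, List.mem_range, Bool.and_eq_true, Nat.blt_eq, beq_iff_eq] at h
  exact (comm_iff K B (by omega) (by omega)).2 ((h i hi).2 j hj)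

theorem eBar_le : eBar K π ≤ (S.mapSurjective B.surj : Subgroup H) := by
  intro x hx
  obtain ⟨i, hi, rfl⟩ := (mem_eBar K).1 hx
  exact mem_S K B (by omega)

theorem eBar_card : Nat.card (eBar K π) = 16 := by
  refine (Nat.card_eq_of_bijective (fun k : Fin 16 => (⟨π (φ (2 * k)), (mem_eBar K).2 ⟨_, by omega, rfl⟩⟩ : eBar K π))
    ⟨fun a b e => ?_, ?_⟩).symm.trans (Nat.card_fin 16)
  · have := (eq_iff K B (by omega) (by omega)).1 (congrArg Subtype.val e)
    exact Fin.ext (by omega)
  · rintro ⟨x, hx⟩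
    obtain ⟨i, hi, rfl⟩ := (mem_eBar K).1 hx
    exact ⟨⟨i / 2, by omega⟩, Subtype.ext ((eq_iff K B (by show 2 * (i / 2) < 128; omega) (by omega)).2
      (by show 2 * (i / 2) / 2 = i / 2; omega))⟩

/-- **The image of the extraspecial subgroup is weakly closed.** -/
theorem eBar_weakly_closed {g : H} (hg : ∀ a ∈ eBar K π, g * a * g⁻¹ ∈ (S.mapSurjective B.surj : Subgroup H))
    {a : H} (ha : a ∈ eBar K π) : g * a * g⁻¹ ∈ eBar K π := by
  classical
  obtain ⟨i, hi, hia⟩ := surj_S K B (hg a ha)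
  by_contra hne
  have hge : ¬ i < 32 := fun h => hne ((mem_eBar K).2 ⟨i, h, hia⟩)
  have hia2 : mT i i < 2 := (sq_one_iff K B hi).1 (by
    rw [hia, show g * a * g⁻¹ * (g * a * g⁻¹) = g * (a * a) * g⁻¹ by group, eBar_sq K B ha]; group)
  set L := (List.range 64).filter fun k => Nat.blt (mT (2 * k) (2 * k)) 2 && mT i (2 * k) / 2 == mT (2 * k) i / 2
    with hL
  have hsub : (fun x => g * x * g⁻¹) '' (eBar K π : Set H) ⊆ (fun k => π (φ (2 * k))) '' ↑L.toFinset := by
    rintro _ ⟨x, hx, rfl⟩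
    obtain ⟨j, hj, hjx⟩ := surj_S K B (hg x hx)
    have e : π (φ (2 * (j / 2))) = g * x * g⁻¹ := by
      rw [← hjx]; exact (eq_iff K B (by omega) hj).2 (by omega)
    refine ⟨j / 2, ?_, e⟩
    simp only [hL, List.coe_toFinset, Set.mem_ofPred_eq, List.mem_filter, List.mem_range, Bool.and_eq_true,
      Nat.blt_eq, beq_iff_eq]
    refine ⟨by omega, (sq_one_iff K B (by omega)).1 (by
      rw [e, show g * x * g⁻¹ * (g * x * g⁻¹) = g * (x * x) * g⁻¹ by group, eBar_sq K B hx]; group),
      (comm_iff K B hi (by omega)).1 ?_⟩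
    rw [e, hia]
    calc g * a * g⁻¹ * (g * x * g⁻¹) = g * (a * x) * g⁻¹ := by group
      _ = g * (x * a) * g⁻¹ := by rw [eBar_comm K B ha hx]
      _ = _ := by group
  have h1 := Set.ncard_le_ncard hsub (Set.toFinite _)
  rw [Set.InjOn.ncard_image (fun a _ b _ e => mul_left_cancel (mul_right_cancel e)), ← Nat.card_coe_set_eq,
    show Nat.card ↥(eBar K π : Set H) = Nat.card (eBar K π) from rfl, eBar_card K B] at h1
  have h2 := h1.trans ((Set.ncard_image_le (Set.toFinite _)).trans_eq (Set.ncard_coe_finset _))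
  rw [List.toFinset_card_of_nodup (show L.Nodup from List.nodup_range.filter _)] at h2
  have h3 := high_count
  simp only [List.all_eq_true, List.mem_range, Bool.or_eq_true, Nat.blt_eq, Bool.not_eq_true'] at h3
  rcases h3 i hi with (h | h) | h
  · exact hge h
  · rw [show Nat.blt (mT i i) 2 = true by simpa using hia2] at h; exact Bool.noConfusion h
  · rw [← hL] at h; omega

theorem eBar_map_eq {g : H} (hg : ∀ a ∈ eBar K π, g * a * g⁻¹ ∈ (S.mapSurjective B.surj : Subgroup H)) :
    g ∈ Subgroup.normalizer (eBar K π : Set H) :=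
  A8ThreeClass.mem_normalizer_of_conj fun _ ha => eBar_weakly_closed K B hg ha

theorem eBar_isWeaklyClosed : IsWeaklyClosed (eBar K π) (S.mapSurjective B.surj : Subgroup H) := by
  refine ⟨eBar_le K B, fun g hg => ?_⟩
  have h : ∀ a ∈ eBar K π, g * a * g⁻¹ ∈ (S.mapSurjective B.surj : Subgroup H) := fun a ha => hg ⟨a, ha, rfl⟩
  exact Subgroup.mem_normalizer_iff_map_conj_eq.1 (eBar_map_eq K B h)

theorem S_le_normalizer : (S.mapSurjective B.surj : Subgroup H) ≤ Subgroup.normalizer (eBar K π : Set H) :=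
  fun g hg => eBar_map_eq K B fun _ ha => mul_mem (mul_mem hg (eBar_le K B ha)) (inv_mem hg)

end Bar

end CfsgLib.J2Cent
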