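import Cfsg.Agent.Lib.J2Cent.Model

/-!
Facts about the involutions of the table and their centralisers.
-/

set_option autoImplicit false
set_option linter.style.longLine false
set_option linter.unusedSectionVars false

namespace CfsgLib.J2Cent

/-- an involution of the extraspecial subgroup with centraliser of order 16 -/
def isSmall (i : ℕ) : Bool := inv2 i && Nat.blt i 32 && Nat.ble 2 i && !isBig i

/-- an involution outside the extraspecial subgroup -/
def isOut (i : ℕ) : Bool := inv2 i && Nat.ble 32 i

theorem classify_ok : ((List.range 128).all fun i => !inv2 i || i == 0 || i == 1 || isBig i || isSmall i || isOut i)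
    = true := by decide +kernel

theorem small_ok : ((List.range 128).all fun i => !isSmall i || (List.range 128).any fun p => cjT p 2 == i)
    = true := by decide +kernel

theorem cen_ok : ((List.range 128).all fun i => !inv2 i || i == 0 || i == 1 || isBig i || (cen i).length == 16)
    = true := by decide +kernel

theorem out_ok : ((List.range 128).all fun i => !isOut i ||
    ((cen i).all fun a => inv2 a && (cen i).all fun b => cmt a b)) = true := by decide +kernel

theorem square_ok : ((List.range 128).all fun j => mT j j == 0 || !inv2 (mT j j) || mT j j == 1 || isBig (mT j j))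
    = true := by decide +kernel

theorem centre_ok : ((List.range 128).all fun i => i == 0 || i == 1 || !((List.range 128).all fun j => cmt i j))
    = true := by decide +kernel

theorem two_facts : (∃ q ∈ cen 2, mT q q = 1) ∧ (∃ a ∈ cen 2, ∃ b ∈ cen 2, cmt a b = false) ∧
    (cen 2).length = 16 ∧ inv2 2 = true ∧ cmt 30 2 = false := by decide +kernel

theorem big_facts : (cen 30).length = 64 ∧ (cen 31).length = 64 ∧ inv2 30 = true ∧ inv2 31 = true ∧
    mT 1 30 = 31 ∧ mT 1 31 = 30 ∧ cmt 30 31 = true := by decide +kernel

theorem one_facts : inv2 1 = true ∧ ((List.range 128).all fun i => cmt 1 i && cmt i 1) = true := by decide +kernel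

theorem classify {i : ℕ} (hi : i < 128) (h : inv2 i = true) (h0 : i ≠ 0) :
    i = 1 ∨ isBig i = true ∨ isSmall i = true ∨ isOut i = true := by
  have := classify_ok
  simp only [List.all_eq_true, List.mem_range, Bool.or_eq_true, beq_iff_eq, Bool.not_eq_true'] at this
  rcases this i hi with ((((h' | h') | h') | h') | h') | h'
  · rw [h] at h'; exact Bool.noConfusion h'
  · exact absurd h' h0
  · exact Or.inl h'
  · exact Or.inr (Or.inl h')
  · exact Or.inr (Or.inr (Or.inl h'))
  · exact Or.inr (Or.inr (Or.inr h'))

theorem big_cases {i : ℕ} (h : isBig i = true) : i = 30 ∨ i = 31 := by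
  simpa [isBig] using h

namespace Tab

variable {G : Type*} [Group G] {φ : ℕ → G} {S : Subgroup G} (K : Tab φ S)
include K

theorem z_central {x : G} (hx : x ∈ S) : x * φ 1 = φ 1 * x := by
  obtain ⟨i, hi, rfl⟩ := K.surj x hx
  have h := one_facts.2
  simp only [List.all_eq_true, List.mem_range, Bool.and_eq_true] at h
  exact (K.comm_iff hi (by norm_num)).2 (h i hi).2

theorem eq_z {x : G} (hx : orderOf x = 2) (hxS : x ∈ S) (hc : ∀ s ∈ S, s * x = x * s) : x = φ 1 := by
  obtain ⟨i, hi, rfl, -, h0⟩ := K.idx_invol hx hxS
  have h := centre_ok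
  simp only [List.all_eq_true, List.mem_range, Bool.or_eq_true, beq_iff_eq, Bool.not_eq_true'] at h
  rcases h i hi with (h' | h') | h'
  · exact absurd h' h0
  · rw [h']
  · exfalso
    have : ((List.range 128).all fun j => cmt i j) = true := by
      simp only [List.all_eq_true, List.mem_range]
      exact fun j hj => (K.comm_iff hi hj).1 (hc _ (K.mem j hj)).symm
    rw [this] at h'; exact Bool.noConfusion h'

/-- the centraliser in `S` of an element of the table -/
theorem mem_cent {i : ℕ} (hi : i < 128) {x : G} :
    x ∈ S ⊓ Subgroup.centralizer ({φ i} : Set G) ↔ ∃ j ∈ cen i, φ j = x := by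
  constructor
  · rintro ⟨hx, hc⟩
    obtain ⟨j, hj, rfl⟩ := K.surj x hx
    refine ⟨j, ?_, rfl⟩
    simp only [cen, List.mem_filter, List.mem_range]
    exact ⟨hj, (K.comm_iff hi hj).1 (Subgroup.mem_centralizer_singleton_iff.1 hc).symm⟩
  · rintro ⟨j, hj, rfl⟩
    simp only [cen, List.mem_filter, List.mem_range] at hj
    exact ⟨K.mem j hj.1, Subgroup.mem_centralizer_singleton_iff.2 ((K.comm_iff hi hj.1).2 hj.2).symm⟩

theorem card_cent {i : ℕ} (hi : i < 128) :
    Nat.card ↥(S ⊓ Subgroup.centralizer ({φ i} : Set G)) = (cen i).length := by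
  classical
  have e : (↑(S ⊓ Subgroup.centralizer ({φ i} : Set G)) : Set G) = φ '' ↑(cen i).toFinset := by
    ext x
    simp only [SetLike.mem_coe, K.mem_cent hi, Set.mem_image, List.coe_toFinset, Set.mem_ofPred_eq]
  show (↑(S ⊓ Subgroup.centralizer ({φ i} : Set G)) : Set G).ncard = _
  rw [e, Set.InjOn.ncard_image, Set.ncard_coe_finset, List.toFinset_card_of_nodup (show (cen i).Nodup from List.nodup_range.filter _)]
  intro a ha b hb h
  simp only [List.coe_toFinset, Set.mem_ofPred_eq, cen, List.mem_filter, List.mem_range] at ha hb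
  exact K.inj a ha.1 b hb.1 h

theorem card_cent_small {i : ℕ} (hi : i < 128) (h : inv2 i = true) (h0 : i ≠ 0) (h1 : i ≠ 1)
    (hb : isBig i = false) : Nat.card ↥(S ⊓ Subgroup.centralizer ({φ i} : Set G)) = 16 := by
  have := cen_ok
  simp only [List.all_eq_true, List.mem_range, Bool.or_eq_true, beq_iff_eq, Bool.not_eq_true'] at this
  rcases this i hi with (((h' | h') | h') | h') | h'
  · rw [h] at h'; exact Bool.noConfusion h'
  · exact absurd h' h0
  · exact absurd h' h1
  · rw [hb] at h'; exact Bool.noConfusion h'
  · rw [K.card_cent hi, h']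

/-- an involution of `S` with a large centraliser is one of the three involutions of the second centre -/
theorem large_cent {x : G} (hx : orderOf x = 2) (hxS : x ∈ S)
    (hc : 16 < Nat.card ↥(S ⊓ Subgroup.centralizer ({x} : Set G))) : x = φ 1 ∨ x = φ 30 ∨ x = φ 31 := by
  obtain ⟨i, hi, rfl, h2, h0⟩ := K.idx_invol hx hxS
  rcases Nat.decEq i 1 with h1 | h1
  · cases hb : isBig i
    · rw [K.card_cent_small hi h2 h0 h1 hb] at hc; omega
    · rcases big_cases hb with rfl | rfl
      · exact Or.inr (Or.inl rfl)
      · exact Or.inr (Or.inr rfl)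
  · exact Or.inl (by rw [h1])

/-- an involution which is a square lies in the second centre -/
theorem square_invol {x y : G} (hy : y ∈ S) (e : y * y = x) (hx : orderOf x = 2) :
    x = φ 1 ∨ x = φ 30 ∨ x = φ 31 := by
  obtain ⟨j, hj, rfl⟩ := K.surj y hy
  rw [← K.mul j hj j hj] at e
  subst e
  obtain ⟨i, hi, e, h2, h0⟩ := K.idx_invol hx (K.mem _ (mT_lt hj hj))
  have e' := K.inj i hi _ (mT_lt hj hj) e
  subst e'
  have := square_ok
  simp only [List.all_eq_true, List.mem_range, Bool.or_eq_true, beq_iff_eq, Bool.not_eq_true'] at this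
  rcases this j hj with ((h' | h') | h') | h'
  · exact absurd h' h0
  · rw [h2] at h'; exact Bool.noConfusion h'
  · exact Or.inl (by rw [h'])
  · rcases big_cases h' with h'' | h''
    · exact Or.inr (Or.inl (by rw [h'']))
    · exact Or.inr (Or.inr (by rw [h'']))

end Tab

end CfsgLib.J2Cent
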