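import Cfsg.Agent.Lib.J2Cent.Facts
import Cfsg.Agent.Lib.M24Syl.Syl
import Cfsg.Agent.Lib.Transfer.Thompson

/-!
With no subgroup of index two, the small involutions of the extraspecial subgroup are conjugate to a large one
in the centraliser of the central involution.
-/

set_option autoImplicit false
set_option linter.style.longLine false
set_option linter.unusedSectionVars false
set_option linter.style.haveILetI false

namespace CfsgLib.J2Cent

open CfsgLib.M24Syl (Into into_or_grow card_lt_of_grow into_top)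

variable {G : Type*} [Group G] [Finite G] {φ : ℕ → G} {S : Sylow 2 G} (K : Tab φ (S : Subgroup G))
include K

/-- an involution whose centraliser in `S` is contained in a larger 2-subgroup of its centraliser moves -/
theorem move_up {x : G} (hx : orderOf x = 2) {X : Subgroup G} {y : G} (hy : y ∉ X)
    (hX : X ≤ Subgroup.centralizer ({x} : Set G)) (hyc : y ∈ Subgroup.centralizer ({x} : Set G))
    (hP : IsPGroup 2 ↥(X ⊔ Subgroup.zpowers y)) :
    ∃ c : G, (∀ a ∈ X, c * a * c⁻¹ ∈ (S : Subgroup G)) ∧ orderOf (c * x * c⁻¹) = 2 ∧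
      Nat.card X < Nat.card ↥((S : Subgroup G) ⊓ Subgroup.centralizer ({c * x * c⁻¹} : Set G)) := by
  obtain ⟨c, -, hc⟩ := into_top S _ le_top hP
  refine ⟨c, fun a ha => hc a (Subgroup.mem_sup_left ha), Invol.conj_orderOf_two hx c, ?_⟩
  refine lt_of_lt_of_le (card_lt_of_grow hy) (M24Syl.card_le_of_conj_mem (c := c) fun a ha =>
    ⟨hc a ha, Subgroup.mem_centralizer_singleton_iff.2 ?_⟩)
  have hax : a * x = x * a := Subgroup.mem_centralizer_singleton_iff.1 (sup_le hX (Subgroup.zpowers_le.2 hyc) ha)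
  calc c * a * c⁻¹ * (c * x * c⁻¹) = c * (a * x) * c⁻¹ := by group
    _ = c * (x * a) * c⁻¹ := by rw [hax]
    _ = _ := by group

/-- an element moved off the subgroup of index two, with its centraliser -/
theorem exists_up (hidx : ∀ H : Subgroup G, H.Normal → H.index ≠ 2) :
    ∃ g : G, (g * φ 2 * g⁻¹ = φ 1 ∨ g * φ 2 * g⁻¹ = φ 30 ∨ g * φ 2 * g⁻¹ = φ 31) ∧
      ∀ a ∈ (S : Subgroup G) ⊓ Subgroup.centralizer ({φ 2} : Set G), g * a * g⁻¹ ∈ (S : Subgroup G) := by
  have hu2 : orderOf (φ 2) = 2 := K.orderOf_two (by norm_num) two_facts.2.2.2.1 (by norm_num)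
  have huS : φ 2 ∈ (S : Subgroup G) := K.mem 2 (by norm_num)
  set X := (S : Subgroup G) ⊓ Subgroup.centralizer ({φ 2} : Set G) with hX
  have hXc : Nat.card X = 16 := by rw [hX, K.card_cent (by norm_num), two_facts.2.2.1]
  have huX : φ 2 ∈ X := ⟨huS, Subgroup.mem_centralizer_singleton_iff.2 rfl⟩
  rcases into_or_grow (H := Subgroup.centralizer ({φ 2} : Set G)) (X := X) inf_le_right
    (S.2.to_le inf_le_left) with hI | ⟨y, hy, hyX, -, hP⟩
  swap
  · obtain ⟨c, hc, hc2, hlt⟩ := move_up K hu2 hyX inf_le_right hy hP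
    exact ⟨c, K.large_cent hc2 (hc _ huX) (by omega), hc⟩
  exfalso
  set Q := (S : Subgroup G) ⊓ Subgroup.centralizer ({φ 30} : Set G) with hQ
  have hQi : Q.relIndex (S : Subgroup G) = 2 := by
    have h := Subgroup.card_mul_index (Q.subgroupOf (S : Subgroup G))
    rw [Nat.card_congr (Subgroup.subgroupOfEquivOfLe (inf_le_left : Q ≤ _)).toEquiv, hQ,
      K.card_cent (by norm_num), big_facts.1, K.card_eq] at h
    show (Q.subgroupOf (S : Subgroup G)).index = 2
    rw [hQ]; omega
  have huQ : φ 2 ∉ Q := fun h => by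
    have := (K.comm_iff (by norm_num) (by norm_num)).1 (Subgroup.mem_centralizer_singleton_iff.1 h.2).symm
    rw [two_facts.2.2.2.2] at this
    exact Bool.noConfusion this
  rcases Transfer.thompson_transfer S hQi (Invol.mul_self_of_orderOf_two hu2) huS huQ with ⟨M, hM, hM2, -⟩ | ⟨g, hg, hgQ⟩
  · exact hidx M hM hM2
  set x := g * φ 2 * g⁻¹ with hx
  obtain ⟨i, hi, hix, h2, h0⟩ := K.idx_invol (x := x) (Invol.conj_orderOf_two hu2 g) hg
  set X' := (S : Subgroup G) ⊓ Subgroup.centralizer ({x} : Set G) with hX'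
  -- the centraliser of `x` in `S` goes into `X`
  obtain ⟨c, hc, hcX⟩ := hI (X'.map (MulAut.conj g⁻¹).toMonoidHom) (by
      rintro _ ⟨a, ha, rfl⟩
      have := Subgroup.mem_centralizer_singleton_iff.1 ha.2
      rw [Subgroup.mem_centralizer_singleton_iff]
      simp only [MulEquiv.coe_toMonoidHom, MulAut.conj_apply, inv_inv]
      calc g⁻¹ * a * g * φ 2 = g⁻¹ * (a * x) * g := by rw [hx]; group
        _ = g⁻¹ * (x * a) * g := by rw [this]
        _ = _ := by rw [hx]; group)
    ((S.2.to_le inf_le_left).map _)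
  have hmove : ∀ a ∈ X', (c * g⁻¹) * a * (c * g⁻¹)⁻¹ ∈ X := fun a ha => by
    have := hcX _ ⟨a, ha, rfl⟩
    simp only [MulEquiv.coe_toMonoidHom, MulAut.conj_apply, inv_inv] at this
    simpa [mul_assoc] using this
  have hle : Nat.card X' ≤ 16 := hXc ▸ M24Syl.card_le_of_conj_mem hmove
  rw [hX', ← hix] at hle
  rcases classify hi h2 h0 with rfl | hb | hs | ho
  · rw [inf_eq_left.2 (fun s hs => Subgroup.mem_centralizer_singleton_iff.2 (K.z_central hs)), K.card_eq] at hle
    omega
  · rcases big_cases hb with rfl | rfl <;> rw [K.card_cent hi] at hle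
    · rw [big_facts.1] at hle; omega
    · rw [big_facts.2.1] at hle; omega
  · have hiQ : φ i ∈ Q := hix ▸ hgQ
    have := (K.comm_iff (by norm_num) hi).1 (Subgroup.mem_centralizer_singleton_iff.1 hiQ.2).symm
    have hs' : ((List.range 128).all fun i => !isSmall i || !cmt 30 i) = true := by decide +kernel
    simp only [List.all_eq_true, List.mem_range, Bool.or_eq_true, Bool.not_eq_true'] at hs'
    rcases hs' i hi with h | h
    · rw [hs] at h; exact Bool.noConfusion h
    · rw [this] at h; exact Bool.noConfusion h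
  · -- an elementary abelian centraliser maps onto a nonabelian one
    have hb : isBig i = false := by
      cases hb : isBig i
      · rfl
      · rcases big_cases hb with rfl | rfl <;> simp [isOut] at ho
    have h1 : i ≠ 1 := by rintro rfl; simp [isOut] at ho
    have hc' : Nat.card X' = 16 := by rw [hX', ← hix]; exact K.card_cent_small hi h2 h0 h1 hb
    let f : ↥X' → ↥X := fun a => ⟨_, hmove a a.2⟩
    have hf : Function.Bijective f := (Nat.bijective_iff_injective_and_card f).2
      ⟨fun a b e => Subtype.ext (mul_left_cancel (mul_right_cancel (congrArg Subtype.val e))), by rw [hc', hXc]⟩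
    obtain ⟨a, ha, b, hb', hab⟩ := two_facts.2.1
    obtain ⟨⟨a', ha'⟩, ea⟩ := hf.2 ⟨φ a, (K.mem_cent (by norm_num)).2 ⟨a, ha, rfl⟩⟩
    obtain ⟨⟨b', hb''⟩, eb⟩ := hf.2 ⟨φ b, (K.mem_cent (by norm_num)).2 ⟨b, hb', rfl⟩⟩
    have hab' : a' * b' = b' * a' := by
      rw [hX', ← hix] at ha' hb''
      obtain ⟨p, hp, rfl⟩ := (K.mem_cent hi).1 ha'
      obtain ⟨q, hq, rfl⟩ := (K.mem_cent hi).1 hb''
      have := out_ok
      simp only [List.all_eq_true, List.mem_range, Bool.or_eq_true, Bool.not_eq_true', Bool.and_eq_true] at this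
      rcases this i hi with h | h
      · rw [ho] at h; exact Bool.noConfusion h
      · simp only [cen, List.mem_filter, List.mem_range] at hp hq
        exact (K.comm_iff hp.1 hq.1).2 ((h p (by simp [cen, hp])).2 q (by simp [cen, hq]))
    simp only [cen, List.mem_filter, List.mem_range] at ha hb'
    have : φ a * φ b = φ b * φ a := by
      rw [← (show (c * g⁻¹) * a' * (c * g⁻¹)⁻¹ = φ a from congrArg Subtype.val ea),
        ← (show (c * g⁻¹) * b' * (c * g⁻¹)⁻¹ = φ b from congrArg Subtype.val eb)]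
      show (c * g⁻¹) * a' * (c * g⁻¹)⁻¹ * ((c * g⁻¹) * b' * (c * g⁻¹)⁻¹) = _
      calc _ = (c * g⁻¹) * (a' * b') * (c * g⁻¹)⁻¹ := by group
        _ = (c * g⁻¹) * (b' * a') * (c * g⁻¹)⁻¹ := by rw [hab']
        _ = _ := by group
    rw [(K.comm_iff ha.1 hb'.1).1 this] at hab
    exact Bool.noConfusion hab

/-- **The small involutions of the extraspecial subgroup are conjugate to large ones in `C(z)`.** -/
theorem fuse_small (hidx : ∀ H : Subgroup G, H.Normal → H.index ≠ 2) :
    ∃ c : G, c * φ 1 = φ 1 * c ∧ (c * φ 2 * c⁻¹ = φ 30 ∨ c * φ 2 * c⁻¹ = φ 31) := by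
  have h1 : (1 : ℕ) < 128 := by norm_num
  have hz2 : orderOf (φ 1) = 2 := K.orderOf_two h1 one_facts.1 (by norm_num)
  obtain ⟨g, hy, hg⟩ := exists_up K hidx
  have e30 : φ 31 = φ 1 * φ 30 := by rw [← K.mul 1 h1 30 (by norm_num), big_facts.2.2.2.2.1]
  have e31 : φ 30 = φ 1 * φ 31 := by rw [← K.mul 1 h1 31 (by norm_num), big_facts.2.2.2.2.2.1]
  obtain ⟨q, hq, hq2⟩ := two_facts.1
  have hqm : φ q ∈ (S : Subgroup G) ⊓ Subgroup.centralizer ({φ 2} : Set G) :=
    (K.mem_cent (by norm_num)).2 ⟨q, hq, rfl⟩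
  have hq128 : q < 128 := by simp only [cen, List.mem_filter, List.mem_range] at hq; exact hq.1
  set w := g * φ 1 * g⁻¹ with hw
  have hw2 : orderOf w = 2 := Invol.conj_orderOf_two hz2 g
  have hwS : w ∈ (S : Subgroup G) := hg _ ⟨K.mem 1 h1, Subgroup.mem_centralizer_singleton_iff.2
    (K.z_central (K.mem 2 (by norm_num))).symm⟩
  have hwc : w = φ 1 ∨ w = φ 30 ∨ w = φ 31 := K.square_invol (hg _ hqm)
    (by rw [hw, ← hq2, K.mul q hq128 q hq128]; group) hw2
  have hne : g * φ 2 * g⁻¹ ≠ w := fun e => by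
    have := K.inj 2 (by norm_num) 1 h1 (mul_left_cancel (mul_right_cancel e))
    omega
  by_cases hw1 : w = φ 1
  · refine ⟨g, mul_inv_eq_iff_eq_mul.1 hw1, hy.resolve_left fun e => hne (e.trans hw1.symm)⟩
  -- a large involution conjugate to `z` moves to `z`, and `z` to a large involution
  have hwi : w = φ 30 ∨ w = φ 31 := hwc.resolve_left hw1
  set X := (S : Subgroup G) ⊓ Subgroup.centralizer ({w} : Set G) with hX
  have hX64 : Nat.card X = 64 := by
    rcases hwi with e | e <;> rw [hX, e, K.card_cent (by norm_num)]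
    · exact big_facts.1
    · exact big_facts.2.1
  have hzX : φ 1 ∈ X := ⟨K.mem 1 h1, Subgroup.mem_centralizer_singleton_iff.2 (K.z_central hwS).symm⟩
  rcases into_or_grow (H := Subgroup.centralizer ({w} : Set G)) (X := X) inf_le_right
    (S.2.to_le inf_le_left) with hI | ⟨y, hy', hyX, -, hP⟩
  · exfalso
    obtain ⟨c, -, hc⟩ := hI ((S : Subgroup G).map (MulAut.conj g).toMonoidHom) (by
      rintro _ ⟨s, hs, rfl⟩
      rw [Subgroup.mem_centralizer_singleton_iff, hw]
      simp only [MulEquiv.coe_toMonoidHom, MulAut.conj_apply]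
      calc g * s * g⁻¹ * (g * φ 1 * g⁻¹) = g * (s * φ 1) * g⁻¹ := by group
        _ = g * (φ 1 * s) * g⁻¹ := by rw [K.z_central hs]
        _ = _ := by group) (S.2.map _)
    have := M24Syl.card_le_of_conj_mem hc
    rw [Subgroup.card_map_of_injective (MulAut.conj g).injective, K.card_eq, hX64] at this
    omega
  obtain ⟨h, hh, hh2, hlt⟩ := move_up K hw2 hyX inf_le_right hy' hP
  -- `h w h⁻¹` is the central involution
  have hhw : h * w * h⁻¹ = φ 1 := by
    rcases K.large_cent hh2 (hh _ ⟨hwS, Subgroup.mem_centralizer_singleton_iff.2 rfl⟩) (by omega) with e | e | e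
    · exact e
    all_goals
      exfalso
      rw [e, K.card_cent (by norm_num), hX64] at hlt
      first
        | (rw [big_facts.1] at hlt; omega)
        | (rw [big_facts.2.1] at hlt; omega)
  have hhz : h * φ 1 * h⁻¹ = φ 30 ∨ h * φ 1 * h⁻¹ = φ 31 := by
    have hz' : orderOf (h * φ 1 * h⁻¹) = 2 := Invol.conj_orderOf_two hz2 h
    have hcard : Nat.card X ≤ Nat.card ↥((S : Subgroup G) ⊓ Subgroup.centralizer ({h * φ 1 * h⁻¹} : Set G)) := by
      refine M24Syl.card_le_of_conj_mem (c := h) fun a ha => ⟨hh a ha, Subgroup.mem_centralizer_singleton_iff.2 ?_⟩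
      calc h * a * h⁻¹ * (h * φ 1 * h⁻¹) = h * (a * φ 1) * h⁻¹ := by group
        _ = h * (φ 1 * a) * h⁻¹ := by rw [K.z_central ha.1]
        _ = _ := by group
    refine (K.large_cent hz' (hh _ hzX) (by omega)).resolve_left fun e => hw1 ?_
    exact (mul_left_cancel (mul_right_cancel (e.trans hhw.symm))).symm
  have hk : ∀ a, (h * g) * a * (h * g)⁻¹ = h * (g * a * g⁻¹) * h⁻¹ := fun a => by group
  refine ⟨h * g, mul_inv_eq_iff_eq_mul.1 (by rw [hk, ← hw, hhw]), ?_⟩
  rw [hk]
  -- the image of the small involution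
  have hzz : ∀ a, h * (φ 1 * a) * h⁻¹ = h * φ 1 * h⁻¹ * (h * a * h⁻¹) := fun a => by group
  have hcz : φ 30 * φ 1 = φ 31 ∧ φ 31 * φ 1 = φ 30 := by
    constructor
    · rw [K.z_central (K.mem 30 (by norm_num)), ← e30]
    · rw [K.z_central (K.mem 31 (by norm_num)), ← e31]
  rcases hy with e | e
  · rw [e]; exact hhz
  have hmul : g * φ 2 * g⁻¹ = φ 1 * w := by
    rcases hwi with ew | ew <;> rcases e with e | e
    · exact absurd (e.trans ew.symm) hne
    · rw [e, ew, e30]
    · rw [e, ew, e31]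
    · exact absurd (e.trans ew.symm) hne
  rw [hmul, hzz, hhw]
  rcases hhz with e' | e' <;> rw [e']
  · exact Or.inr hcz.1
  · exact Or.inl hcz.2

end CfsgLib.J2Cent
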