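import Cfsg.Agent.Lib.J2Cent.Normal
import Cfsg.Agent.Lib.J2Uniq.Instance

/-!
Groups with Sylow 2-subgroups of the type of the Hall–Janko group and no subgroup of index two: the
centraliser of the central involution modulo its core is that of the Hall–Janko group.
-/

set_option autoImplicit false
set_option linter.style.longLine false
set_option linter.unusedSectionVars false
set_option linter.style.haveILetI false

open Cfsg

namespace CfsgLib.J2Cent

open CfsgLib.J2Uniq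

/-- the model in the Hall–Janko group -/
theorem exists_J2 : ∃ (φ : ℕ → Spor.J2) (Q : Sylow 2 Spor.J2) (Φ : MC → Spor.J2), Tab φ (Q : Subgroup Spor.J2) ∧
    Function.Injective Φ ∧ (∀ a b, Φ (mmul a b) = Φ a * Φ b) ∧
    ∀ g : Spor.J2, g * φ 1 = φ 1 * g ↔ ∃ m, Φ m = g := by
  haveI := Fact.mk Nat.prime_two
  obtain ⟨Q, K, C, hyp⟩ := hyp_J
  obtain ⟨k, x, F⟩ := exists_frame hyp.toCore
  obtain ⟨φ, P, T, hz, -⟩ := tab_of_frame F
  let u := J2.equivJ
  let φ' : ℕ → Spor.J2 := fun i => u.symm (φ i)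
  have hfac : Nat.card J2.J = 604800 := J2.card_J
  let P' : Sylow 2 J2.J := Sylow.ofCard P (by
    rw [T.card_eq, hfac, show (604800 : ℕ) = 2 ^ 7 * 4725 from rfl, Nat.factorization_mul (by norm_num) (by norm_num),
      Finsupp.add_apply, Nat.prime_two.factorization_pow, Finsupp.single_eq_same,
      Nat.factorization_eq_zero_of_not_dvd (by norm_num)]
    norm_num)
  let Q' : Sylow 2 Spor.J2 := P'.mapSurjective (f := u.symm.toMonoidHom) u.symm.surjective
  refine ⟨φ', Q', fun m => u.symm (Frame.Φ _ k x m),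
    ⟨fun i hi => ⟨φ i, T.mem i hi, rfl⟩, ?_, fun i hi j hj h => T.inj i hi j hj (u.symm.injective h),
      fun i hi j hj => (congrArg u.symm (T.mul i hi j hj)).trans (map_mul _ _ _)⟩,
    u.symm.injective.comp F.Φ_injective, fun a b => (congrArg u.symm (F.Φ_mul a b)).trans (map_mul _ _ _), fun g => ?_⟩
  · rintro _ ⟨y, hy, rfl⟩
    obtain ⟨i, hi, rfl⟩ := T.surj y hy
    exact ⟨i, hi, rfl⟩
  show g * u.symm (φ 1) = u.symm (φ 1) * g ↔ ∃ m, u.symm (Frame.Φ _ k x m) = g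
  constructor
  · intro h
    have h' : u g * J2.Fus.zE = J2.Fus.zE * u g := by
      have := congrArg u h
      rwa [map_mul, map_mul, MulEquiv.apply_symm_apply, hz] at this
    obtain ⟨m, hm⟩ := F.exists_Φ ((hyp.mem_C _).2 h')
    exact ⟨m, by rw [hm, MulEquiv.symm_apply_apply]⟩
  · rintro ⟨m, rfl⟩
    rw [hz, ← map_mul, ← map_mul, (hyp.mem_C _).1 (F.Φ_mem m)]

theorem oddCore_quotient_self {X : Type*} [Group X] [Finite X] [(oddCore X).Normal] :
    oddCore (X ⧸ oddCore X) = ⊥ := by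
  haveI := Fact.mk Nat.prime_two
  haveI hN : (oddCore (X ⧸ oddCore X)).Normal := Transfer.pPrimeCore_normal 2 _
  rw [eq_bot_iff]
  intro y hy
  obtain ⟨x, rfl⟩ := QuotientGroup.mk_surjective y
  set L := (oddCore (X ⧸ oddCore X)).comap (QuotientGroup.mk' (oddCore X)) with hL
  have hLn : L.Normal := hN.comap _
  have hcard : (Nat.card L).Coprime 2 := by
    let f : L →* ↥(oddCore (X ⧸ oddCore X)) := (QuotientGroup.mk' (oddCore X)).subgroupComap _
    have hfs : Function.Surjective f := fun ⟨y, hy⟩ => by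
      obtain ⟨x, rfl⟩ := QuotientGroup.mk_surjective y
      exact ⟨⟨x, hy⟩, rfl⟩
    have h1 := f.ker.card_mul_index
    rw [Subgroup.index_ker, MonoidHom.range_eq_top.2 hfs, Subgroup.card_top] at h1
    rw [← h1]
    refine Nat.Coprime.mul_left ?_ (Transfer.pPrimeCore_coprime 2)
    have hk : f.ker.map L.subtype ≤ oddCore X := by
      rintro _ ⟨v, hv, rfl⟩
      exact (QuotientGroup.eq_one_iff _).1 (congrArg Subtype.val hv)
    have := Subgroup.card_dvd_of_le hk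
    rw [Subgroup.card_map_of_injective L.subtype_injective] at this
    exact Nat.Coprime.coprime_dvd_left this (Transfer.pPrimeCore_coprime 2)
  exact (QuotientGroup.eq_one_iff x).2 (Transfer.le_pPrimeCore hLn hcard hy)

theorem oddCore_quotient_central {X Y : Type*} [Group X] [Group Y] [Finite X] [Finite Y] (π : X →* Y)
    (hs : Function.Surjective π) (hO : oddCore X = ⊥) (hker : π.ker ≤ Subgroup.center X) : oddCore Y = ⊥ := by
  haveI := Fact.mk Nat.prime_two
  rw [eq_bot_iff]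
  intro y hy
  obtain ⟨x, rfl⟩ := hs y
  set L := (oddCore Y).comap π with hL
  have hLn : L.Normal := (Transfer.pPrimeCore_normal 2 Y).comap _
  have hodd : ∀ c ∈ L, (∃ k, orderOf c = 2 ^ k) → π c = 1 := by
    intro c hc ⟨k, hk⟩
    refine eq_of_two_pow ?_ ((Nat.coprime_two_right.1 (Transfer.pPrimeCore_coprime 2)).of_dvd_nat
      (Subgroup.orderOf_dvd_natCard _ (show π c ∈ oddCore Y from hc)))
    obtain ⟨l, -, hl⟩ := (Nat.dvd_prime_pow Nat.prime_two).1 (hk ▸ orderOf_map_dvd π c)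
    exact ⟨l, hl⟩
  obtain ⟨R⟩ : Nonempty (Sylow 2 L) := inferInstance
  have hnpc := Transfer.hasNormalPComplement_of_central R (fun r hr => by
    obtain ⟨k, hk⟩ := IsPGroup.iff_orderOf.1 R.2 ⟨r, hr⟩
    rw [← Subgroup.orderOf_coe, ← Subgroup.orderOf_coe] at hk
    have := hker (show (r : X) ∈ π.ker from hodd r r.2 ⟨k, hk⟩)
    exact Subgroup.mem_center_iff.2 fun g => Subtype.ext (Subgroup.mem_center_iff.1 this g))
  obtain ⟨o, ho, c, hc, hc2, rfl⟩ := mem_core_mul hLn hnpc (show x ∈ L from hy)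
  rw [show oddCore X = ⊥ from hO, Subgroup.mem_bot] at ho
  rw [ho, one_mul, Subgroup.mem_bot]
  exact hodd c hc hc2

/-- **The centraliser of the central involution modulo its core.** -/
theorem main {G : Type*} [Group G] [Finite G] (S : Sylow 2 G) (P : Sylow 2 Spor.J2)
    (hS : Nonempty (↥(S : Subgroup G) ≃* ↥(P : Subgroup Spor.J2)))
    (h2 : ∀ H : Subgroup G, H.Normal → H.index ≠ 2)
    (z : G) (hz : orderOf z = 2) (hzS : z ∈ (S : Subgroup G)) (hzc : ∀ s ∈ (S : Subgroup G), s * z = z * s) :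
    ∃ (z' : Spor.J2) (Q : Sylow 2 Spor.J2), orderOf z' = 2 ∧ z' ∈ (Q : Subgroup Spor.J2) ∧
      (∀ s ∈ (Q : Subgroup Spor.J2), s * z' = z' * s) ∧
      Nonempty ((↥(Subgroup.centralizer ({z} : Set G)) ⧸ oddCore ↥(Subgroup.centralizer ({z} : Set G))) ≃*
        ↥(Subgroup.centralizer ({z'} : Set Spor.J2))) := by
  haveI := Fact.mk Nat.prime_two
  obtain ⟨φJ, Q, Φ, TJ, hΦi, hΦm, hΦc⟩ := exists_J2
  haveI : Finite Spor.J2 := Finite.of_equiv _ J2.equivJ.symm.toEquiv
  obtain ⟨e0⟩ := hS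
  let e : ↥(Q : Subgroup Spor.J2) ≃* ↥(S : Subgroup G) := (Sylow.equiv Q P).trans e0.symm
  let φ : ℕ → G := fun i => if h : i < 128 then (e ⟨φJ i, TJ.mem i h⟩ : G) else 1
  have hφ : ∀ i (h : i < 128), φ i = (e ⟨φJ i, TJ.mem i h⟩ : G) := fun i h => dif_pos h
  have T : Tab φ (S : Subgroup G) := by
    refine ⟨fun i hi => by rw [hφ i hi]; exact SetLike.coe_mem _, fun x hx => ?_, fun i hi j hj h => ?_, fun i hi j hj => ?_⟩
    · obtain ⟨i, hi, h⟩ := TJ.surj _ (e.symm ⟨x, hx⟩).2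
      refine ⟨i, hi, ?_⟩
      rw [hφ i hi, show (⟨φJ i, TJ.mem i hi⟩ : ↥(Q : Subgroup Spor.J2)) = e.symm ⟨x, hx⟩ from Subtype.ext h,
        MulEquiv.apply_symm_apply]
    · rw [hφ i hi, hφ j hj] at h
      exact TJ.inj i hi j hj (congrArg Subtype.val (e.injective (Subtype.ext h)))
    · rw [hφ i hi, hφ j hj, hφ _ (mT_lt hi hj), ← Subgroup.coe_mul, ← map_mul]
      exact congrArg (fun y => (e y : G)) (Subtype.ext (TJ.mul i hi j hj))
  have hz1 : z = φ 1 := T.eq_z hz hzS hzc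
  set C := Subgroup.centralizer ({z} : Set G) with hC
  have hSC : (S : Subgroup G) ≤ C := fun s hs => Subgroup.mem_centralizer_singleton_iff.2 (hzc s hs)
  let SC : Sylow 2 C := S.subtype hSC
  haveI hOn : (oddCore ↥C).Normal := Transfer.pPrimeCore_normal 2 _
  let π1 : ↥C →* ↥C ⧸ oddCore ↥C := QuotientGroup.mk' _
  have hπ1 : Function.Surjective π1 := QuotientGroup.mk'_surjective _
  let S1 := SC.mapSurjective hπ1
  let ψ : ℕ → ↥C ⧸ oddCore ↥C := fun i => if h : i < 128 then π1 ⟨φ i, hSC (T.mem i h)⟩ else 1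
  have hψ : ∀ i (h : i < 128), ψ i = π1 ⟨φ i, hSC (T.mem i h)⟩ := fun i h => dif_pos h
  have T1 : Tab ψ (S1 : Subgroup (↥C ⧸ oddCore ↥C)) := by
    refine ⟨fun i hi => ?_, fun x hx => ?_, fun i hi j hj h => ?_, fun i hi j hj => ?_⟩
    · rw [hψ i hi, Sylow.coe_mapSurjective]
      exact ⟨⟨φ i, hSC (T.mem i hi)⟩, T.mem i hi, rfl⟩
    · rw [Sylow.coe_mapSurjective] at hx
      obtain ⟨y, hy, rfl⟩ := hx
      obtain ⟨i, hi, h⟩ := T.surj _ (show (y : G) ∈ (S : Subgroup G) from hy)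
      exact ⟨i, hi, by rw [hψ i hi]; exact congrArg π1 (Subtype.ext h)⟩
    · rw [hψ i hi, hψ j hj] at h
      refine T.inj i hi j hj ?_
      have hm := (QuotientGroup.eq).1 h
      set d : ↥C := (⟨φ i, hSC (T.mem i hi)⟩ : C)⁻¹ * ⟨φ j, hSC (T.mem j hj)⟩
      have hdS : (d : G) ∈ (S : Subgroup G) := mul_mem (inv_mem (T.mem i hi)) (T.mem j hj)
      have hd2 : ∃ k, orderOf d = 2 ^ k := by
        obtain ⟨k, hk⟩ := IsPGroup.iff_orderOf.1 S.2 ⟨(d : G), hdS⟩
        rw [← Subgroup.orderOf_coe] at hk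
        exact ⟨k, by rw [← Subgroup.orderOf_coe]; exact hk⟩
      have hd1 := eq_of_two_pow hd2
        ((Nat.coprime_two_right.1 (Transfer.pPrimeCore_coprime 2)).of_dvd_nat (Subgroup.orderOf_dvd_natCard _ hm))
      exact inv_mul_eq_one.1 (congrArg Subtype.val hd1)
    · rw [hψ i hi, hψ j hj, hψ _ (mT_lt hi hj), ← map_mul]
      exact congrArg π1 (Subtype.ext (T.mul i hi j hj))
  have hcen : ∀ g, ψ 1 * g = g * ψ 1 := by
    intro g
    obtain ⟨c, rfl⟩ := hπ1 g
    rw [hψ 1 (by norm_num), ← map_mul, ← map_mul]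
    refine congrArg π1 (Subtype.ext ?_)
    show φ 1 * (c : G) = c * φ 1
    rw [← hz1]
    exact (Subgroup.mem_centralizer_singleton_iff.1 c.2).symm
  have hfus : ∃ c, c * ψ 2 * c⁻¹ = ψ 30 ∨ c * ψ 2 * c⁻¹ = ψ 31 := by
    obtain ⟨c, hcz, hc⟩ := fuse_small T h2
    refine ⟨π1 ⟨c, Subgroup.mem_centralizer_singleton_iff.2 (by rw [hz1, hcz])⟩, ?_⟩
    rw [hψ 2 (by norm_num), hψ 30 (by norm_num), hψ 31 (by norm_num), ← map_mul, ← map_inv, ← map_mul]
    rcases hc with h | h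
    · exact Or.inl (congrArg π1 (Subtype.ext h))
    · exact Or.inr (congrArg π1 (Subtype.ext h))
  have hz1' : ψ 1 * ψ 1 = 1 := (T1.sq_one_iff (by norm_num)).2 one_facts.1
  let Z : Subgroup (↥C ⧸ oddCore ↥C) := Subgroup.zpowers (ψ 1)
  haveI hZn : Z.Normal := ⟨fun n hn g => by
    obtain ⟨j, rfl⟩ := Subgroup.mem_zpowers_iff.1 hn
    rw [((show Commute g (ψ 1) from (hcen g).symm).zpow_right j).eq, mul_inv_cancel_right]
    exact Subgroup.zpow_mem _ (Subgroup.mem_zpowers _) j⟩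
  let π2 := QuotientGroup.mk' Z
  have hker : π2.ker ≤ Subgroup.center (↥C ⧸ oddCore ↥C) := by
    rw [QuotientGroup.ker_mk']
    exact Subgroup.zpowers_le.2 (Subgroup.mem_center_iff.2 fun g => (hcen g).symm)
  have B : Bar ψ π2 := ⟨QuotientGroup.mk'_surjective Z, fun x => by
    show (x : (↥C ⧸ oddCore ↥C) ⧸ Z) = 1 ↔ _
    rw [QuotientGroup.eq_one_iff]
    constructor
    · intro hx
      obtain ⟨j, rfl⟩ := Subgroup.mem_zpowers_iff.1 hx
      rcases Int.even_or_odd' j with ⟨m, rfl | rfl⟩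
      · exact Or.inl (by rw [zpow_mul, zpow_two, hz1', one_zpow])
      · exact Or.inr (by rw [zpow_add_one, zpow_mul, zpow_two, hz1', one_zpow, one_mul])
    · rintro (rfl | rfl)
      · exact one_mem _
      · exact Subgroup.mem_zpowers _⟩
  obtain ⟨μ, hμ, hμm⟩ := exists_model T1 B hcen
    (oddCore_quotient_central π2 (QuotientGroup.mk'_surjective Z) oddCore_quotient_self hker) hfus
  refine ⟨φJ 1, Q, TJ.orderOf_two (by norm_num) one_facts.1 (by norm_num), TJ.mem 1 (by norm_num),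
    fun s hs => TJ.z_central hs, ⟨?_⟩⟩
  let ν : MC → ↥(Subgroup.centralizer ({φJ 1} : Set Spor.J2)) := fun m =>
    ⟨Φ m, Subgroup.mem_centralizer_singleton_iff.2 ((hΦc _).2 ⟨m, rfl⟩)⟩
  have hν : Function.Bijective ν := ⟨fun a b h => hΦi (congrArg Subtype.val h), fun ⟨g, hg⟩ => by
    obtain ⟨m, hm⟩ := (hΦc g).1 (Subgroup.mem_centralizer_singleton_iff.1 hg)
    exact ⟨m, Subtype.ext hm⟩⟩
  refine MulEquiv.mk ((Equiv.ofBijective μ hμ).symm.trans (Equiv.ofBijective ν hν)) fun x y => ?_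
  obtain ⟨a, rfl⟩ := hμ.2 x
  obtain ⟨b, rfl⟩ := hμ.2 y
  have hs : ∀ m, (Equiv.ofBijective μ hμ).symm (μ m) = m := fun m => (Equiv.ofBijective μ hμ).symm_apply_apply m
  show ν ((Equiv.ofBijective μ hμ).symm (μ a * μ b)) =
    ν ((Equiv.ofBijective μ hμ).symm (μ a)) * ν ((Equiv.ofBijective μ hμ).symm (μ b))
  rw [← hμm, hs, hs, hs]
  exact Subtype.ext (hΦm a b)

end CfsgLib.J2Cent
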