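import Mathlib

/-!
A table for a Sylow 2-subgroup of the Hall–Janko group: the index `i` stands for the product of the element
`i % 32` of the extraspecial subgroup (sign first) and the element `i / 32` of a complementary four-group.
-/

set_option autoImplicit false
set_option linter.style.longLine false

namespace CfsgLib.J2Cent

/-- the action of the four-group on the extraspecial group, five bits for each pair -/
def actTab : ℕ := 0xff9cfb5cc7d6d4b94c62e758da54a4c65288c020ffaf67b8e6ef295634a4dea5352c62ce2304a020ffb5be771973d6a6b128b5e72ad23031c6229020ffbbcdeb38bdab49ca307b9ac5a928398a418820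

/-- the cocycle of the extraspecial group -/
def cocTab : ℕ := 0x5a5a5a5af0f0f0f03c3c3c3c96969696cccccccc66666666aaaaaaaa00000000

/-- the inverses, seven bits each -/
def invTab : ℕ := 0xfffb7eeefdb3e6f7eb5eae7cb1e2fbf36ecebd32e4f3e34e8e3c30e0bf7ab579d3e347b976ad49b322c4b56e9d2972a1c2b1668d093220c07ef9dba7af1cb85eb952b58b54a86ed993368d58b04e991a24a910a03e78e1d346cc192c5ca15244c8901c3c60d142c4880c1c2840608080

/-- the index modulo the centre against the table of the alternating group of degree eight, six bits each -/
def rhoTab : ℕ := 0xd77db4f7ffbce7beb8c73cb09679a4b6fbaca6baa88638a055759475f79c65b69845349014718434f38c24b288043080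

/-- the image of an element of the extraspecial group under the four-group -/
def actQ (v q : ℕ) : ℕ :=
  Nat.mod (Nat.shiftRight actTab (Nat.mul (nat_lit 5) (Nat.add (Nat.mul (nat_lit 32) v) q))) (nat_lit 32)

/-- product in the extraspecial group -/
def mQ (p q : ℕ) : ℕ :=
  Nat.xor (Nat.xor p q) (Nat.mod (Nat.shiftRight cocTab
    (Nat.add (Nat.mul (nat_lit 16) (Nat.div p (nat_lit 2))) (Nat.div q (nat_lit 2)))) (nat_lit 2))

/-- multiplication -/
def mT (i j : ℕ) : ℕ :=
  Nat.add (mQ (Nat.mod i (nat_lit 32)) (actQ (Nat.div i (nat_lit 32)) (Nat.mod j (nat_lit 32))))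
    (Nat.mul (nat_lit 32) (Nat.xor (Nat.div i (nat_lit 32)) (Nat.div j (nat_lit 32))))

/-- inverse -/
def invT (i : ℕ) : ℕ := Nat.mod (Nat.shiftRight invTab (Nat.mul (nat_lit 7) i)) (nat_lit 128)

/-- conjugation -/
def cjT (p i : ℕ) : ℕ := mT (mT p i) (invT p)

/-- commuting indices -/
def cmt (i j : ℕ) : Bool := Nat.beq (mT i j) (mT j i)

/-- the centraliser of an index -/
def cen (i : ℕ) : List ℕ := (List.range 128).filter (cmt i)

/-- an involution or the identity -/
def inv2 (i : ℕ) : Bool := Nat.beq (mT i i) 0

/-- the centre -/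
def inZ (i : ℕ) : Bool := Nat.ble i 1

/-- the involutions with centraliser of order 64 -/
def isBig (i : ℕ) : Bool := Nat.beq i 30 || Nat.beq i 31

/-- the index in the table of the alternating group of degree eight -/
def rho (i : ℕ) : ℕ := Nat.mod (Nat.shiftRight rhoTab (Nat.mul (nat_lit 6) (Nat.div i (nat_lit 2)))) (nat_lit 64)

/-- the inverse of `rho`, six bits each -/
def invRhoTab : ℕ := 0xeb9ef8db5df4fbdffccb1cf0aa9ae89a59e4badbec8a18e06996d85955d479d7dc4914d02892c81851c438d3cc0810c0

/-- the index modulo the centre of an index of the table of the alternating group of degree eight -/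
def invRho (k : ℕ) : ℕ := Nat.mod (Nat.shiftRight invRhoTab (Nat.mul (nat_lit 6) k)) (nat_lit 64)

end CfsgLib.J2Cent
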