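import Cfsg.Agent.Lib.J2Uniq.Model
import Cfsg.Agent.Lib.J2Cent.Table

/-!
The table inside the model of the centraliser of the central involution, and the basic facts about a
subgroup described by the table.
-/

set_option autoImplicit false
set_option linter.style.longLine false
set_option linter.unusedSectionVars false

namespace CfsgLib.J2Cent

open CfsgLib.J2Uniq

local notation "A₅" => alternatingGroup (Fin 5)

/-- an element of the extraspecial group -/
def toQ (q : ℕ) : QM := (q.testBit 0, q.testBit 1, q.testBit 2, q.testBit 3, q.testBit 4)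

/-- an element of the four-group -/
def toV : ℕ → A₅
  | 1 => pt
  | 2 => pt'
  | 3 => pt''
  | _ => 1

/-- an element of the model -/
def toM (i : ℕ) : MC := (toQ (i % 32), toV (i / 32))

theorem qmul_ok : ((List.range 32).all fun p => (List.range 32).all fun q =>
    decide (qmul (toQ p) (toQ q) = toQ (mQ p q)) && Nat.blt (mQ p q) 32) = true := by decide +kernel

theorem qact_ok : ((List.range 4).all fun v => (List.range 32).all fun q =>
    decide (qact (toV v) (toQ q) = toQ (actQ v q)) && Nat.blt (actQ v q) 32) = true := by decide +kernel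

theorem toV_ok : ((List.range 4).all fun v => (List.range 4).all fun w =>
    decide (toV v * toV w = toV (Nat.xor v w)) && Nat.blt (Nat.xor v w) 4 &&
      (decide (toV v ≠ toV w) || v == w)) = true := by decide +kernel

theorem toQ_inj : ((List.range 32).all fun p => (List.range 32).all fun q =>
    decide (toQ p ≠ toQ q) || p == q) = true := by decide +kernel

theorem mT_lt {i j : ℕ} (hi : i < 128) (hj : j < 128) : mT i j < 128 := by
  have h1 := qmul_ok
  have h2 := qact_ok
  have h3 := toV_ok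
  simp only [List.all_eq_true, List.mem_range, Bool.and_eq_true, Nat.blt_eq] at h1 h2 h3
  have a := (h1 (i % 32) (by omega) _ (h2 (i / 32) (by omega) (j % 32) (by omega)).2).2
  have b := (h3 (i / 32) (by omega) (j / 32) (by omega)).1.2
  show mQ (i % 32) (actQ (i / 32) (j % 32)) + 32 * Nat.xor (i / 32) (j / 32) < 128
  omega

theorem toM_mul {i j : ℕ} (hi : i < 128) (hj : j < 128) : toM (mT i j) = mmul (toM i) (toM j) := by
  have h1 := qmul_ok
  have h2 := qact_ok
  have h3 := toV_ok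
  simp only [List.all_eq_true, List.mem_range, Bool.and_eq_true, Nat.blt_eq, decide_eq_true_eq] at h1 h2 h3
  obtain ⟨e2, l2⟩ := h2 (i / 32) (by omega) (j % 32) (by omega)
  obtain ⟨e1, l1⟩ := h1 (i % 32) (by omega) _ l2
  obtain ⟨⟨e3, l3⟩, -⟩ := h3 (i / 32) (by omega) (j / 32) (by omega)
  have em : mT i j = mQ (i % 32) (actQ (i / 32) (j % 32)) + 32 * Nat.xor (i / 32) (j / 32) := rfl
  have d1 : mT i j % 32 = mQ (i % 32) (actQ (i / 32) (j % 32)) := by omega
  have d2 : mT i j / 32 = Nat.xor (i / 32) (j / 32) := by omega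
  rw [toM, d1, d2, ← e1, ← e2, ← e3]
  rfl

theorem toM_inj {i j : ℕ} (hi : i < 128) (hj : j < 128) (h : toM i = toM j) : i = j := by
  have h1 := toQ_inj
  have h3 := toV_ok
  simp only [List.all_eq_true, List.mem_range, Bool.and_eq_true, Bool.or_eq_true, decide_eq_true_eq,
    beq_iff_eq] at h1 h3
  have a := (h1 (i % 32) (by omega) (j % 32) (by omega)).resolve_left fun e => e (congrArg Prod.fst h)
  have b := (h3 (i / 32) (by omega) (j / 32) (by omega)).2.resolve_left fun e => e (congrArg Prod.snd h)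
  omega

theorem basic_ok : ((List.range 128).all fun i => Nat.blt (invT i) 128 && mT i (invT i) == 0 &&
    mT 0 i == i && mT i 0 == i) = true := by decide +kernel

theorem invT_spec {i : ℕ} (hi : i < 128) : invT i < 128 ∧ mT i (invT i) = 0 := by
  have h := basic_ok
  simp only [List.all_eq_true, List.mem_range, Bool.and_eq_true, Nat.blt_eq, beq_iff_eq] at h
  exact ⟨(h i hi).1.1.1, (h i hi).1.1.2⟩

theorem toM_zero : toM 0 = mone := by decide +kernel

theorem cjT_lt {p i : ℕ} (hp : p < 128) (hi : i < 128) : cjT p i < 128 :=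
  mT_lt (mT_lt hp hi) (invT_spec hp).1

/-- `S` is described by `φ` on the indices below 128. -/
structure Tab {G : Type*} [Group G] (φ : ℕ → G) (S : Subgroup G) : Prop where
  mem : ∀ i < 128, φ i ∈ S
  surj : ∀ x ∈ S, ∃ i < 128, φ i = x
  inj : ∀ i < 128, ∀ j < 128, φ i = φ j → i = j
  mul : ∀ i < 128, ∀ j < 128, φ (mT i j) = φ i * φ j

namespace Tab

variable {G : Type*} [Group G] {φ : ℕ → G} {S : Subgroup G} (K : Tab φ S)
include K

theorem one : φ 0 = 1 := by
  have h := K.mul 0 (by norm_num) 0 (by norm_num)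
  rw [show mT 0 0 = 0 by decide +kernel] at h
  simpa using h

theorem eq_one_iff {i : ℕ} (hi : i < 128) : φ i = 1 ↔ i = 0 :=
  ⟨fun h => K.inj i hi 0 (by norm_num) (h.trans K.one.symm), fun h => h ▸ K.one⟩

theorem inv_eq {i : ℕ} (hi : i < 128) : φ (invT i) = (φ i)⁻¹ := by
  refine eq_inv_of_mul_eq_one_right ?_
  rw [← K.mul i hi _ (invT_spec hi).1, (invT_spec hi).2, K.one]

theorem conj_eq {p i : ℕ} (hp : p < 128) (hi : i < 128) : φ (cjT p i) = φ p * φ i * (φ p)⁻¹ := by
  rw [cjT, K.mul _ (mT_lt hp hi) _ (invT_spec hp).1, K.mul p hp i hi, K.inv_eq hp]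

theorem comm_iff {i j : ℕ} (hi : i < 128) (hj : j < 128) : φ i * φ j = φ j * φ i ↔ cmt i j = true := by
  rw [← K.mul i hi j hj, ← K.mul j hj i hi, cmt, Nat.beq_eq]
  exact ⟨K.inj _ (mT_lt hi hj) _ (mT_lt hj hi), fun h => h ▸ rfl⟩

theorem sq_one_iff {i : ℕ} (hi : i < 128) : φ i * φ i = 1 ↔ inv2 i = true := by
  rw [← K.mul i hi i hi, K.eq_one_iff (mT_lt hi hi), inv2, Nat.beq_eq]

theorem orderOf_two {i : ℕ} (hi : i < 128) (h : inv2 i = true) (h0 : i ≠ 0) : orderOf (φ i) = 2 :=
  orderOf_eq_prime (by rw [pow_two]; exact (K.sq_one_iff hi).2 h) fun e => h0 ((K.eq_one_iff hi).1 e)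

theorem idx_invol {x : G} (hx : orderOf x = 2) (hxS : x ∈ S) :
    ∃ i < 128, φ i = x ∧ inv2 i = true ∧ i ≠ 0 := by
  obtain ⟨i, hi, rfl⟩ := K.surj x hxS
  refine ⟨i, hi, rfl, (K.sq_one_iff hi).1 (by rw [← pow_two, ← hx, pow_orderOf_eq_one]), ?_⟩
  rintro rfl
  rw [K.one, orderOf_one] at hx
  omega

theorem card_eq : Nat.card S = 128 := by
  refine (Nat.card_eq_of_bijective (fun i : Fin 128 => (⟨φ i, K.mem i i.2⟩ : S)) ⟨?_, ?_⟩).symm.trans
    (Nat.card_fin 128)
  · exact fun i j h => Fin.ext (K.inj i i.2 j j.2 (congrArg Subtype.val h))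
  · rintro ⟨x, hx⟩
    obtain ⟨i, hi, rfl⟩ := K.surj x hx
    exact ⟨⟨i, hi⟩, rfl⟩

/-- the subgroup of a set of indices closed under multiplication -/
def sub (_ : Tab φ S) (f : ℕ → Bool) : Subgroup G := Subgroup.closure {x | ∃ i < 128, f i = true ∧ φ i = x}

theorem mem_sub {f : ℕ → Bool} (h0 : f 0 = true)
    (hf : ∀ i < 128, f i = true → f (invT i) = true ∧ ∀ j < 128, f j = true → f (mT i j) = true) {x : G} :
    x ∈ K.sub f ↔ ∃ i < 128, f i = true ∧ φ i = x := by
  refine ⟨fun h => ?_, fun h => Subgroup.subset_closure h⟩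
  induction h using Subgroup.closure_induction with
  | mem x hx => exact hx
  | one => exact ⟨0, by norm_num, h0, K.one⟩
  | mul x y _ _ hx hy =>
    obtain ⟨i, hi, fi, rfl⟩ := hx
    obtain ⟨j, hj, fj, rfl⟩ := hy
    exact ⟨_, mT_lt hi hj, (hf i hi fi).2 j hj fj, K.mul i hi j hj⟩
  | inv x _ hx =>
    obtain ⟨i, hi, fi, rfl⟩ := hx
    exact ⟨_, (invT_spec hi).1, (hf i hi fi).1, K.inv_eq hi⟩

theorem sub_le (f : ℕ → Bool) : K.sub f ≤ S :=
  (Subgroup.closure_le S).2 fun _ ⟨i, hi, _, e⟩ => e ▸ K.mem i hi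

theorem card_sub {f : ℕ → Bool} (h0 : f 0 = true)
    (hf : ∀ i < 128, f i = true → f (invT i) = true ∧ ∀ j < 128, f j = true → f (mT i j) = true) :
    Nat.card (K.sub f) = ((List.range 128).filter f).length := by
  classical
  have e : (K.sub f : Set G) = φ '' ↑((List.range 128).filter f).toFinset := by
    ext x
    simp only [SetLike.mem_coe, K.mem_sub h0 hf, Set.mem_image, List.coe_toFinset, List.mem_filter,
      List.mem_range, Set.mem_setOf_eq]
    exact ⟨fun ⟨i, hi, fi, e⟩ => ⟨i, ⟨hi, fi⟩, e⟩, fun ⟨i, ⟨hi, fi⟩, e⟩ => ⟨i, hi, fi, e⟩⟩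
  show (K.sub f : Set G).ncard = _
  rw [e, Set.ncard_image_of_injOn, Set.ncard_coe_finset, List.toFinset_card_of_nodup (List.nodup_range.filter _)]
  intro i hi j hj h
  simp only [List.coe_toFinset, List.mem_filter, List.mem_range, Set.mem_setOf_eq] at hi hj
  exact K.inj i hi.1 j hj.1 h

end Tab

/-- the map from the model restricted to the table -/
theorem tab_of_frame {G : Type*} [Group G] [Finite G] {z : G} {Q K C : Subgroup G}
    {k : alternatingGroup (Fin 5) →* G} {x : Fin 5 → G} (F : Frame z Q K C k x) :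
    ∃ (φ : ℕ → G) (P : Subgroup G), Tab φ P ∧ φ 1 = z ∧ P ≤ C := by
  let φ : ℕ → G := fun i => Frame.Φ z k x (toM i)
  have hmul : ∀ i < 128, ∀ j < 128, φ (mT i j) = φ i * φ j := fun i hi j hj => by
    show Frame.Φ z k x (toM (mT i j)) = _
    rw [toM_mul hi hj, F.Φ_mul]
  have h0 : φ 0 = 1 := by
    show Frame.Φ z k x (toM 0) = 1
    rw [toM_zero, F.Φ_one]
  let P : Subgroup G :=
    { carrier := {y | ∃ i < 128, φ i = y}
      one_mem' := ⟨0, by norm_num, h0⟩
      mul_mem' := by
        rintro _ _ ⟨i, hi, rfl⟩ ⟨j, hj, rfl⟩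
        exact ⟨_, mT_lt hi hj, hmul i hi j hj⟩
      inv_mem' := by
        rintro _ ⟨i, hi, rfl⟩
        refine ⟨invT i, (invT_spec hi).1, eq_inv_of_mul_eq_one_right ?_⟩
        rw [← hmul i hi _ (invT_spec hi).1, (invT_spec hi).2, h0] }
  refine ⟨φ, P, ⟨fun i hi => ⟨i, hi, rfl⟩, fun y hy => hy, fun i hi j hj h => toM_inj hi hj (F.Φ_injective h),
    hmul⟩, ?_, fun y ⟨i, _, e⟩ => e ▸ F.Φ_mem _⟩
  show Frame.Φ z k x (toM 1) = z
  rw [show toM 1 = (qflip qone, 1) by decide +kernel, Frame.Φ, F.E_flip, F.E_one, mul_one, map_one, mul_one]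

end CfsgLib.J2Cent
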