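import Cfsg.Agent.Lib.J2Cent.Aut
import Cfsg.Agent.Lib.J2Type.Hyp
import Cfsg.Agent.Lib.J2Uniq.Model
import Cfsg.Agent.Lib.Extraspecial.Setting

/-!
In a group with trivial core and central distinguished involution the extraspecial subgroup is normal with
quotient the alternating group of degree five, and the group is determined.
-/

set_option autoImplicit false
set_option linter.style.longLine false
set_option linter.unusedSectionVars false
set_option linter.style.haveILetI false

open Cfsg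
open scoped commutatorElement

namespace CfsgLib.J2Cent

variable {G H : Type*} [Group G] [Group H] [Finite G] [Finite H] {φ : ℕ → G} {S : Sylow 2 G}
  {π : G →* H}

open Bar in
/-- the number of classes in the quotient -/
theorem three_classes (K : Tab φ (S : Subgroup G)) (B : Bar φ π) (hz : ∀ g : G, φ 1 * g = g * φ 1)
    (hn : ((eBar K π).subgroupOf (Subgroup.normalizer (eBar K π : Set H)) ⊔
      oddCore ↥(Subgroup.normalizer (eBar K π : Set H))).Normal)
    (e : ↥(Subgroup.normalizer (eBar K π : Set H)) ⧸ ((eBar K π).subgroupOf (Subgroup.normalizer (eBar K π : Set H)) ⊔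
      oddCore ↥(Subgroup.normalizer (eBar K π : Set H))) ≃* ↥(alternatingGroup (Fin 5))) :
    Nat.card {c : ConjClasses H // ∃ x ∈ c.carrier, orderOf x = 2} = 3 := by
  haveI := Fact.mk Nat.prime_two
  classical
  obtain ⟨R, q, el, L⟩ := A8ThreeClass.exists_lab (sylow_type K B) (fun a ha => eBar_sq K B ha) (eBar_card K B) hn e
  obtain ⟨s, hs⟩ : ∃ s : H, ∀ x ∈ (R : Subgroup H), orderOf x = 2 → x ∉ eBar K π → IsConj s x := by
    by_cases h : ∃ s : H, s ∈ (R : Subgroup H) ∧ s ∉ eBar K π ∧ s * s = 1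
    · obtain ⟨s, hs, hsA, hs2⟩ := h
      refine ⟨s, fun x hx hx2 hxA => ?_⟩
      obtain ⟨m, -, -, hm⟩ := L.outside_conj hs hsA hs2 hx hxA (Invol.mul_self_of_orderOf_two hx2)
      exact isConj_iff.2 ⟨m, hm⟩
    · exact ⟨1, fun x hx hx2 hxA => absurd ⟨x, hx, hxA, Invol.mul_self_of_orderOf_two hx2⟩ h⟩
  set C := {c : ConjClasses H | ∃ x ∈ c.carrier, orderOf x = 2} with hC
  have hsub : C ⊆ {ConjClasses.mk (el (A8ThreeClass.zc 4)), ConjClasses.mk (el A8ThreeClass.u01), ConjClasses.mk s} := by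
    rintro c ⟨x, hx, hx2⟩
    obtain ⟨g, hg⟩ := A8ThreeClass.exists_conj_mem R (Transfer.isPGroup_zpowers (p := 2) (x := x) ⟨1, by rw [hx2]; rfl⟩)
    have hgR := hg x (Subgroup.mem_zpowers x)
    have hg2 := Invol.conj_orderOf_two hx2 g
    rw [← ConjClasses.mem_carrier_iff_mk_eq.1 hx,
      ConjClasses.mk_eq_mk_iff_isConj.2 (isConj_iff.2 ⟨g, rfl⟩ : IsConj x (g * x * g⁻¹))]
    simp only [Set.mem_insert_iff, Set.mem_singleton_iff, ConjClasses.mk_eq_mk_iff_isConj]
    by_cases hA : g * x * g⁻¹ ∈ eBar K π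
    · obtain ⟨k, hk⟩ := (L.el_iff _).1 hA
      rcases L.isConj_reps (x := k) fun e => Invol.ne_one_of_orderOf_two hg2 (by rw [← hk, e, L.el_zero]) with h | h
      · exact Or.inl (hk ▸ h.symm)
      · exact Or.inr (Or.inl (hk ▸ h.symm))
    · exact Or.inr (Or.inr (hs _ hgR hg2 hA).symm)
  have hle : C.ncard ≤ 3 := (Set.ncard_le_ncard hsub (Set.toFinite _)).trans
    ((Set.ncard_insert_le _ _).trans (by
      have := Set.ncard_insert_le (ConjClasses.mk (el A8ThreeClass.u01)) ({ConjClasses.mk s} : Set (ConjClasses H))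
      rw [Set.ncard_singleton] at this; omega))
  -- three classes which differ
  have lift : ∀ {i j : ℕ}, i < 128 → j < 128 → IsConj (π (φ i)) (π (φ j)) →
      ∃ c : G, c * φ i * c⁻¹ = φ j ∨ c * φ i * c⁻¹ = φ (mT 1 j) := by
    intro i j hi hj h
    obtain ⟨d, hd⟩ := isConj_iff.1 h
    obtain ⟨c, rfl⟩ := B.surj d
    refine ⟨c, ?_⟩
    rcases (B.ker (c * φ i * c⁻¹ * (φ j)⁻¹)).1 (by simp only [map_mul, map_inv]; rw [hd, mul_inv_cancel]) with e | e
    · exact Or.inl (mul_inv_eq_one.1 e)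
    · exact Or.inr (by rw [K.mul 1 (by norm_num) j hj, ← mul_inv_eq_iff_eq_mul.1 e])
  have ord : ∀ i < 128, mT i i < 2 → 2 ≤ i → orderOf (π (φ i)) = 2 := fun i hi h h2 =>
    Invol.orderOf_two_of_mul_self ((sq_one_iff K B hi).2 h) fun e => by
      rw [← map_one π, ← K.one, eq_iff K B hi (by norm_num)] at e; omega
  have n1 : ¬ IsConj (π (φ 30)) (π (φ 6)) := fun h => by
    obtain ⟨c, hc⟩ := lift (by norm_num) (by norm_num) h
    have h30 := (K.sq_one_iff (i := 30) (by norm_num)).2 big_facts.2.2.1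
    have hv : inv2 6 = false ∧ inv2 (mT 1 6) = false ∧ mT 1 6 < 128 := by decide +kernel
    rcases hc with e | e
    · have := (K.sq_one_iff (i := 6) (by norm_num)).1 (by
        rw [← e, show c * φ 30 * c⁻¹ * (c * φ 30 * c⁻¹) = c * (φ 30 * φ 30) * c⁻¹ by group, h30]; group)
      rw [hv.1] at this; exact Bool.noConfusion this
    · have := (K.sq_one_iff hv.2.2).1 (by
        rw [← e, show c * φ 30 * c⁻¹ * (c * φ 30 * c⁻¹) = c * (φ 30 * φ 30) * c⁻¹ by group, h30]; group)
      rw [hv.2.1] at this; exact Bool.noConfusion this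
  have n2 : ¬ IsConj (π (φ 32)) (π (φ 6)) := fun h => by
    obtain ⟨c, hc⟩ := lift (by norm_num) (by norm_num) h
    have h32 := (K.sq_one_iff (i := 32) (by norm_num)).2 (by decide +kernel)
    have hv : inv2 6 = false ∧ inv2 (mT 1 6) = false ∧ mT 1 6 < 128 := by decide +kernel
    rcases hc with e | e
    · have := (K.sq_one_iff (i := 6) (by norm_num)).1 (by
        rw [← e, show c * φ 32 * c⁻¹ * (c * φ 32 * c⁻¹) = c * (φ 32 * φ 32) * c⁻¹ by group, h32]; group)
      rw [hv.1] at this; exact Bool.noConfusion this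
    · have := (K.sq_one_iff hv.2.2).1 (by
        rw [← e, show c * φ 32 * c⁻¹ * (c * φ 32 * c⁻¹) = c * (φ 32 * φ 32) * c⁻¹ by group, h32]; group)
      rw [hv.2.1] at this; exact Bool.noConfusion this
  have n3 : ¬ IsConj (π (φ 32)) (π (φ 30)) := fun h => by
    obtain ⟨c, hc⟩ := lift (by norm_num) (by norm_num) h
    have hno := out_not_conj K hz (i := 32) (by norm_num) (by decide +kernel) c
    rw [big_facts.2.2.2.2.1] at hc
    rcases hc with e | e
    exacts [hno.1 e, hno.2 e]
  have hge : ({ConjClasses.mk (π (φ 30)), ConjClasses.mk (π (φ 6)), ConjClasses.mk (π (φ 32))} : Set (ConjClasses H)) ⊆ C := by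
    rintro c (rfl | rfl | rfl)
    all_goals refine ⟨_, ConjClasses.mem_carrier_mk, ord _ (by norm_num) (by decide +kernel) (by norm_num)⟩
  have h3 : ({ConjClasses.mk (π (φ 30)), ConjClasses.mk (π (φ 6)), ConjClasses.mk (π (φ 32))} : Set (ConjClasses H)).ncard = 3 := by
    rw [Set.ncard_insert_of_notMem, Set.ncard_pair]
    · exact fun h => n2 (ConjClasses.mk_eq_mk_iff_isConj.1 h).symm
    · rintro (h | h)
      · exact n1 (ConjClasses.mk_eq_mk_iff_isConj.1 h)
      · exact n3 (ConjClasses.mk_eq_mk_iff_isConj.1 h).symm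
  have := Set.ncard_le_ncard hge (Set.toFinite _)
  show Nat.card ↥C = 3
  rw [Nat.card_coe_set_eq]
  omega

open Bar in
/-- **The extraspecial subgroup is normal with quotient the alternating group of degree five.** -/
theorem normal_quot (K : Tab φ (S : Subgroup G)) (B : Bar φ π) (hz : ∀ g : G, φ 1 * g = g * φ 1)
    (hO : oddCore H = ⊥) (hf : ∃ c : G, c * φ 2 * c⁻¹ = φ 30 ∨ c * φ 2 * c⁻¹ = φ 31) :
    ∃ f : G →* ↥(alternatingGroup (Fin 5)), Function.Surjective f ∧ f.ker = K.sub (fun i => Nat.blt i 32) := by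
  haveI := Fact.mk Nat.prime_two
  obtain ⟨q, hq⟩ := exists_q K B
  let qa : ↥(Subgroup.normalizer (eBar K π : Set H)) →* ↥(alternatingGroup (Fin 5)) :=
    q.codRestrict _ fun n => Equiv.Perm.mem_alternatingGroup.2 (q_sign K B hq n)
  have hsur : Function.Surjective qa := fun ⟨σ, hσ⟩ => by
    obtain ⟨n, hn⟩ := (range_top K B hq hf).ge hσ
    exact ⟨n, Subtype.ext hn⟩
  have hker : qa.ker = (eBar K π).subgroupOf (Subgroup.normalizer (eBar K π : Set H)) ⊔ oddCore ↥(Subgroup.normalizer (eBar K π : Set H)) := by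
    refine le_antisymm (fun n hn => ?_) (sup_le (fun n hn => ?_) fun o ho => ?_)
    · obtain ⟨o, ho, a, ha, e⟩ := ker_eq K B hq (congrArg Subtype.val hn : q n = 1)
      have : n = o * (⟨a, Subgroup.le_normalizer ha⟩ : (Subgroup.normalizer (eBar K π : Set H))) := Subtype.ext e
      rw [this]
      exact mul_mem (Subgroup.mem_sup_right ho) (Subgroup.mem_sup_left ha)
    · exact Subtype.ext (q_one_of_cent K B hq fun a ha => eBar_comm K B hn ha)
    · exact Subtype.ext (core_q K B hq ho)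
  haveI hn : ((eBar K π).subgroupOf (Subgroup.normalizer (eBar K π : Set H)) ⊔ oddCore ↥(Subgroup.normalizer (eBar K π : Set H))).Normal := hker ▸ inferInstance
  let e : ↥(Subgroup.normalizer (eBar K π : Set H)) ⧸ ((eBar K π).subgroupOf (Subgroup.normalizer (eBar K π : Set H)) ⊔ oddCore ↥(Subgroup.normalizer (eBar K π : Set H))) ≃* ↥(alternatingGroup (Fin 5)) :=
    (QuotientGroup.quotientMulEquivOfEq hker.symm).trans (QuotientGroup.quotientKerEquivOfSurjective qa hsur)
  have hA := A8ThreeClass.normal_sup (sylow_type K B) (three_classes K B hz hn e) (fun a ha => eBar_sq K B ha)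
    (eBar_card K B) hn e
  rw [hO, sup_bot_eq] at hA
  have hNtop : ∀ h : H, h ∈ (Subgroup.normalizer (eBar K π : Set H)) := fun h => A8ThreeClass.mem_normalizer_of_conj fun a ha => hA.conj_mem a ha h
  let ι : G →* ↥(Subgroup.normalizer (eBar K π : Set H)) := π.codRestrict (Subgroup.normalizer (eBar K π : Set H)) fun g => hNtop (π g)
  refine ⟨qa.comp ι, hsur.comp fun n => ?_, ?_⟩
  · obtain ⟨g, hg⟩ := B.surj n
    exact ⟨g, Subtype.ext hg⟩
  ext g
  rw [MonoidHom.mem_ker, K.mem_sub (by decide +kernel) low_sub]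
  constructor
  · intro h
    obtain ⟨o, ho, a, ha, e'⟩ := ker_eq K B hq (congrArg Subtype.val h : q (ι g) = 1)
    have ho1 : (o : H) = 1 := by
      have hU : ((oddCore ↥(Subgroup.normalizer (eBar K π : Set H))).map (Subgroup.normalizer (eBar K π : Set H)).subtype).Normal := ⟨by
        rintro _ ⟨u, hu, rfl⟩ h
        exact ⟨⟨h, hNtop h⟩ * u * ⟨h, hNtop h⟩⁻¹, (Transfer.pPrimeCore_normal 2 _).conj_mem u hu _, rfl⟩⟩
      have := Transfer.le_pPrimeCore (p := 2) hU (by
        rw [Subgroup.card_map_of_injective (Subgroup.normalizer (eBar K π : Set H)).subtype_injective]; exact Transfer.pPrimeCore_coprime 2) ⟨o, ho, rfl⟩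
      rw [show pPrimeCore 2 H = ⊥ from hO] at this
      exact Subgroup.mem_bot.1 this
    rw [ho1, one_mul] at e'
    obtain ⟨i, hi, hia⟩ := (mem_eBar K).1 ha
    have hgi : π g = π (φ i) := (show π g = a from e').trans hia.symm
    rcases (B.ker (g * (φ i)⁻¹)).1 (by rw [map_mul, map_inv, hgi, mul_inv_cancel]) with h' | h'
    · exact ⟨i, by omega, by simpa using hi, (mul_inv_eq_one.1 h').symm⟩
    · refine ⟨mT 1 i, mT_lt (by norm_num) (by omega),
        (low_sub 1 (by norm_num) (by decide +kernel)).2 i (by omega) (by simpa using hi), ?_⟩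
      rw [K.mul 1 (by norm_num) i (by omega), ← mul_inv_eq_iff_eq_mul.1 h']
  · rintro ⟨i, hi, hi32, rfl⟩
    exact Subtype.ext (q_one_of_cent K B hq (n := ι (φ i)) fun a ha =>
      eBar_comm K B ((mem_eBar K).2 ⟨i, by simpa using hi32, rfl⟩) ha)

/-- the subgroup of the indices below 32 is extraspecial -/
theorem low_extraspecial (K : Tab φ (S : Subgroup G)) : IsExtraspecial 2 ↥(K.sub fun i => Nat.blt i 32) := by
  haveI := Fact.mk Nat.prime_two
  set E := K.sub fun i => Nat.blt i 32
  have hm : ∀ {x : G}, x ∈ E ↔ ∃ i < 128, Nat.blt i 32 = true ∧ φ i = x := K.mem_sub (by decide +kernel) low_sub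
  have hcen : ∀ {a : ↥E}, (a : G) = 1 ∨ (a : G) = φ 1 → a ∈ Subgroup.center ↥E := by
    intro a h
    refine Subgroup.mem_center_iff.2 fun b => Subtype.ext ?_
    show (b : G) * a = a * b
    rcases h with h | h <;> rw [h]
    · rw [one_mul, mul_one]
    · exact K.z_central (K.sub_le _ b.2)
  have h1 : φ 1 ∈ E := hm.2 ⟨1, by norm_num, by decide +kernel, rfl⟩
  have hcm : ((List.range 32).all fun i => (List.range 32).all fun j =>
      Nat.blt (mT (mT (mT i j) (invT i)) (invT j)) 2) = true := by decide +kernel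
  simp only [List.all_eq_true, List.mem_range, Nat.blt_eq] at hcm
  have hsq : ((List.range 32).all fun i => Nat.blt (mT i i) 2) = true := by decide +kernel
  simp only [List.all_eq_true, List.mem_range, Nat.blt_eq] at hsq
  have hlow : ∀ {k : ℕ}, k < 2 → φ k = 1 ∨ φ k = φ 1 := fun {k} hk => by
    interval_cases k
    · exact Or.inl K.one
    · exact Or.inr rfl
  have hcenter : Subgroup.center ↥E = Subgroup.zpowers (⟨φ 1, h1⟩ : E) := by
    refine le_antisymm (fun a ha => ?_) (Subgroup.zpowers_le.2 (hcen (Or.inr rfl)))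
    obtain ⟨i, hi, hi32, hia⟩ := hm.1 a.2
    have hi32' : i < 32 := by simpa using hi32
    have hz : ((List.range 32).all fun i => Nat.blt i 2 || !((List.range 32).all fun j => cmt i j)) = true := by
      decide +kernel
    simp only [List.all_eq_true, List.mem_range, Bool.or_eq_true, Nat.blt_eq, Bool.not_eq_true'] at hz
    rcases hz i hi32' with h | h
    · interval_cases i
      · rw [show a = 1 from Subtype.ext (hia.symm.trans K.one)]; exact one_mem _
      · rw [show a = ⟨φ 1, h1⟩ from Subtype.ext hia.symm]; exact Subgroup.mem_zpowers _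
    · exfalso
      have : ((List.range 32).all fun j => cmt i j) = true := by
        simp only [List.all_eq_true, List.mem_range]
        intro j hj
        refine (K.comm_iff hi (by omega)).1 ?_
        rw [hia]
        exact (congrArg Subtype.val (Subgroup.mem_center_iff.1 ha ⟨φ j, hm.2 ⟨j, by omega, by simpa using hj, rfl⟩⟩)).symm
      rw [this] at h; exact Bool.noConfusion h
  refine Extraspecial.isExtraspecial_of (S.2.to_le (K.sub_le _)) ?_ (fun a b => hcen ?_) (fun a => hcen ?_) ?_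
  · rw [hcenter, Nat.card_zpowers, ← Subgroup.orderOf_coe]
    exact K.orderOf_two (by norm_num) one_facts.1 (by norm_num)
  · obtain ⟨i, hi, hi', hia⟩ := hm.1 a.2
    obtain ⟨j, hj, hj', hjb⟩ := hm.1 b.2
    have e : ((⁅a, b⁆ : ↥E) : G) = φ (mT (mT (mT i j) (invT i)) (invT j)) := by
      rw [K.mul _ (mT_lt (mT_lt hi hj) (invT_spec hi).1) _ (invT_spec hj).1,
        K.mul _ (mT_lt hi hj) _ (invT_spec hi).1, K.mul i hi j hj, K.inv_eq hi, K.inv_eq hj, hia, hjb]
      rfl
    rw [e]
    exact hlow (hcm i (by simpa using hi') j (by simpa using hj'))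
  · obtain ⟨i, hi, hi', hia⟩ := hm.1 a.2
    rw [Subgroup.coe_pow, pow_two, ← hia, ← K.mul i hi i hi]
    exact hlow (hsq i (by simpa using hi'))
  · refine ⟨⟨φ 2, hm.2 ⟨2, by norm_num, by decide +kernel, rfl⟩⟩, ⟨φ 4, hm.2 ⟨4, by norm_num, by decide +kernel, rfl⟩⟩,
      fun h => ?_⟩
    have h' := congrArg Subtype.val h
    rw [commutatorElement_eq_one_iff_mul_comm] at h
    have := (K.comm_iff (i := 2) (j := 4) (by norm_num) (by norm_num)).1 (congrArg Subtype.val h)
    exact absurd this (by decide +kernel)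

open CfsgLib.J2Uniq in
/-- **The group is the model.** -/
theorem exists_model (K : Tab φ (S : Subgroup G)) (B : Bar φ π) (hz : ∀ g : G, φ 1 * g = g * φ 1)
    (hO : oddCore H = ⊥) (hf : ∃ c : G, c * φ 2 * c⁻¹ = φ 30 ∨ c * φ 2 * c⁻¹ = φ 31) :
    ∃ ψ : MC → G, Function.Bijective ψ ∧ ∀ a b, ψ (mmul a b) = ψ a * ψ b := by
  obtain ⟨f, hf1, hfk⟩ := normal_quot K B hz hO hf
  set E := K.sub fun i => Nat.blt i 32 with hE
  haveI hEn : E.Normal := hfk ▸ inferInstance
  set E' : Subgroup ↥(⊤ : Subgroup G) := E.subgroupOf ⊤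
  haveI : E'.Normal := Subgroup.normal_subgroupOf
  have hiE : ↥E' ≃* ↥E := Subgroup.subgroupOfEquivOfLe le_top
  have hEc : Nat.card E' = 2 ^ 5 := by
    rw [Nat.card_congr hiE.toEquiv, Bar.card_low K]; norm_num
  have hCC : ∀ c : ↥(⊤ : Subgroup G), (∀ q ∈ E', q * c = c * q) → c ∈ E' := by
    intro c hc
    -- the image centralises the points
    obtain ⟨q, hq⟩ := Bar.exists_q K B
    have hA : ∀ a ∈ Bar.eBar K π, π (c : G) * a = a * π (c : G) := by
      intro a ha
      obtain ⟨i, hi, rfl⟩ := (Bar.mem_eBar K).1 ha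
      rw [← map_mul, ← map_mul]
      exact congrArg π (congrArg Subtype.val (hc ⟨φ i, trivial⟩
        (show φ i ∈ E from (K.mem_sub (by decide +kernel) low_sub).2 ⟨i, by omega, by simpa using hi, rfl⟩))).symm
    have hN : π (c : G) ∈ Subgroup.normalizer (Bar.eBar K π : Set H) :=
      A8ThreeClass.mem_normalizer_of_conj fun a ha => by rw [hA a ha, mul_inv_cancel_right]; exact ha
    obtain ⟨o, ho, a, ha, e⟩ := Bar.ker_eq K B hq (n := ⟨π (c : G), hN⟩) (Bar.q_one_of_cent K B hq hA)
    have hEbar : (Bar.eBar K π).Normal := Subgroup.Normal.map hEn π B.surj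
    have ho1 : (o : H) = 1 := by
      have hU : ((oddCore ↥(Subgroup.normalizer (Bar.eBar K π : Set H))).map (Subgroup.normalizer _).subtype).Normal := ⟨by
        rintro _ ⟨u, hu, rfl⟩ h
        have hh : h ∈ Subgroup.normalizer (Bar.eBar K π : Set H) :=
          A8ThreeClass.mem_normalizer_of_conj fun a ha => hEbar.conj_mem a ha h
        exact ⟨⟨h, hh⟩ * u * ⟨h, hh⟩⁻¹, (Transfer.pPrimeCore_normal 2 _).conj_mem u hu _, rfl⟩⟩
      have := Transfer.le_pPrimeCore (p := 2) hU (by
        rw [Subgroup.card_map_of_injective Subtype.val_injective]; exact Transfer.pPrimeCore_coprime 2) ⟨o, ho, rfl⟩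
      rw [show pPrimeCore 2 H = ⊥ from hO] at this
      exact Subgroup.mem_bot.1 this
    have e' : π (c : G) = a := by simpa [ho1] using e
    obtain ⟨x, hx, rfl⟩ := ha
    show (c : G) ∈ E
    rcases (B.ker ((c : G) * x⁻¹)).1 (by rw [map_mul, map_inv, e', mul_inv_cancel]) with h | h
    · rw [mul_inv_eq_one.1 h]; exact hx
    · rw [mul_inv_eq_iff_eq_mul.1 h]
      exact mul_mem ((K.mem_sub (by decide +kernel) low_sub).2 ⟨1, by norm_num, by decide +kernel, rfl⟩) hx
  let f' : ↥(⊤ : Subgroup G) →* ↥(alternatingGroup (Fin 5)) := f.comp (⊤ : Subgroup G).subtype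
  have hf' : Function.Surjective f' := fun y => by
    obtain ⟨g, hg⟩ := hf1 y
    exact ⟨⟨g, trivial⟩, hg⟩
  have hk' : E' = f'.ker := by
    ext x
    show (x : G) ∈ E ↔ f (x : G) = 1
    rw [← hfk]; rfl
  obtain ⟨ω⟩ := J2Type.omega_equiv_alt5
  have e5 := ((QuotientGroup.quotientMulEquivOfEq hk').trans
    (QuotientGroup.quotientKerEquivOfSurjective f' hf')).trans ω.symm
  obtain ⟨-, -, hK⟩ := J2Type.exists_core_aux (φ 1) (K.orderOf_two (by norm_num) one_facts.1 (by norm_num)) ⊤
    (fun g => ⟨fun _ => (hz g).symm, fun _ => trivial⟩) E' hCC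
    (Extraspecial.isExtraspecial_congr hiE.symm (low_extraspecial K)) hEc e5
  have hout : φ 32 ∉ E'.map (⊤ : Subgroup G).subtype := by
    rintro ⟨x, hx, e⟩
    obtain ⟨i, hi, hi', he⟩ := (K.mem_sub (by decide +kernel) low_sub).1 (show (x : G) ∈ E from hx)
    have := K.inj i hi 32 (by norm_num) (he.trans e)
    subst this
    simp at hi'
  obtain ⟨K', hcore⟩ := hK (φ 32) trivial (K.orderOf_two (by norm_num) (by decide +kernel) (by norm_num)) hout
  obtain ⟨k, x, F⟩ := exists_frame hcore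
  refine ⟨Frame.Φ (φ 1) k x, ⟨F.Φ_injective, fun g => F.exists_Φ (show g ∈ (⊤ : Subgroup G) from trivial)⟩, F.Φ_mul⟩

end CfsgLib.J2Cent
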