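import Cfsg.Agent.Lib.J2Cent.Fuse

/-!
When the distinguished involution is central, the involutions outside the extraspecial subgroup are conjugate
to no involution of the second centre.
-/

set_option autoImplicit false
set_option linter.style.longLine false
set_option linter.unusedSectionVars false
set_option linter.style.haveILetI false
set_option linter.style.multiGoal false

namespace CfsgLib.J2Cent

open CfsgLib.M24Syl (Into into_or_grow card_lt_of_grow into_top into_of_sylow)

/-- the two centralisers of outside involutions -/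
def isA (i : ℕ) (a : ℕ) : Bool := (cen i).contains a

/-- a conjugation normalising the centraliser -/
def normA (i y : ℕ) : Bool := (cen i).all fun a => isA i (cjT y a)

theorem two_kinds : ((List.range 128).all fun i => !isOut i || cen i == cen 32 || cen i == cen 38) = true := by
  decide +kernel

theorem swap_ok : ((List.range 128).any fun p => (cen 32).all fun a => isA 38 (cjT p a)) = true ∧
    ((List.range 128).any fun p => (cen 38).all fun a => isA 32 (cjT p a)) = true := by decide +kernel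

theorem back_ok : ∀ i ∈ [32, 38], ((cen i).all fun r => (List.range 128).any fun y => normA i y &&
    (cjT y r == r || cjT y r == mT 1 r) && (cen i).any fun a => cjT y a == mT 30 a || cjT y a == mT 31 a)
    = true := by decide +kernel

theorem shift_ok : ∀ i ∈ [32, 38], ((List.range 128).all fun y => !normA i y || (cen i).all fun a =>
    cjT y a == a || cjT y a == mT 1 a || cjT y a == mT 30 a || cjT y a == mT 31 a) = true := by decide +kernel

theorem fix_big : ((List.range 128).all fun p => isBig (cjT p 30) && isBig (cjT p 31)) = true := by decide +kernel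

theorem low_count : ((List.range 128).filter fun i => inv2 i && Nat.blt i 32).length = 12 := by decide +kernel

theorem out_facts : ∀ i ∈ [32, 38], isOut i = true ∧ isA i 30 = true ∧ isA i 31 = true ∧ isA i i = true := by
  decide +kernel

theorem mem_isA {i a : ℕ} : isA i a = true ↔ a ∈ cen i := by simp [isA]

namespace Tab

variable {G : Type*} [Group G] {φ : ℕ → G} {S : Subgroup G} (K : Tab φ S)
include K

theorem big_mul : φ 31 = φ 1 * φ 30 ∧ φ 30 = φ 1 * φ 31 := by
  constructor
  · rw [← K.mul 1 (by norm_num) 30 (by norm_num), big_facts.2.2.2.2.1]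
  · rw [← K.mul 1 (by norm_num) 31 (by norm_num), big_facts.2.2.2.2.2.1]

/-- the centraliser in `S` of an outside involution is elementary abelian -/
theorem out_elementary {i : ℕ} (hi : i < 128) (ho : isOut i = true) {x : G}
    (hx : x ∈ S ⊓ Subgroup.centralizer ({φ i} : Set G)) : x * x = 1 ∧
      ∀ y ∈ S ⊓ Subgroup.centralizer ({φ i} : Set G), x * y = y * x := by
  have h := out_ok
  simp only [List.all_eq_true, List.mem_range, Bool.or_eq_true, Bool.not_eq_true', Bool.and_eq_true] at h
  rcases h i hi with h' | h'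
  · rw [ho] at h'; exact Bool.noConfusion h'
  obtain ⟨a, ha, rfl⟩ := (K.mem_cent hi).1 hx
  have ha' : a < 128 := by simp only [cen, List.mem_filter, List.mem_range] at ha; exact ha.1
  refine ⟨(K.sq_one_iff ha').2 (h' a ha).1, fun y hy => ?_⟩
  obtain ⟨b, hb, rfl⟩ := (K.mem_cent hi).1 hy
  have hb' : b < 128 := by simp only [cen, List.mem_filter, List.mem_range] at hb; exact hb.1
  exact (K.comm_iff ha' hb').2 ((h' a ha).2 b hb)

theorem card_out {i : ℕ} (hi : i < 128) (ho : isOut i = true) :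
    Nat.card ↥(S ⊓ Subgroup.centralizer ({φ i} : Set G)) = 16 := by
  have hi' : inv2 i = true ∧ 32 ≤ i := by simpa [isOut] using ho
  refine K.card_cent_small hi hi'.1 (by omega) (by omega) ?_
  cases hb : isBig i
  · rfl
  · rcases big_cases hb with rfl | rfl <;> omega

end Tab

variable {G : Type*} [Group G] [Finite G] {φ : ℕ → G} {S : Sylow 2 G} (K : Tab φ (S : Subgroup G))
include K

/-- a conjugate in `S` of one of the two distinguished subgroups is again one of them -/
theorem back {i : ℕ} (hi : i ∈ [32, 38]) {c : G}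
    (hc : ∀ a ∈ (S : Subgroup G) ⊓ Subgroup.centralizer ({φ i} : Set G), c * a * c⁻¹ ∈ (S : Subgroup G)) :
    ∃ t ∈ (S : Subgroup G), ∀ a ∈ (S : Subgroup G) ⊓ Subgroup.centralizer ({φ i} : Set G),
      (t * c) * a * (t * c)⁻¹ ∈ (S : Subgroup G) ⊓ Subgroup.centralizer ({φ i} : Set G) := by
  classical
  have hi' : i < 128 := by simp only [List.mem_cons, List.not_mem_nil, or_false] at hi; omega
  have ho := (out_facts i hi).1
  set X := (S : Subgroup G) ⊓ Subgroup.centralizer ({φ i} : Set G) with hX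
  have hXc : Nat.card X = 16 := K.card_out hi' ho
  -- some image lies outside the extraspecial subgroup
  obtain ⟨a₀, ha₀, b, hb, hbo, hab⟩ : ∃ a ∈ X, ∃ b < 128, isOut b = true ∧ φ b = c * a * c⁻¹ := by
    by_contra hcon
    push Not at hcon
    have hsub : ((X : Set G).image fun a => c * a * c⁻¹) ⊆
        φ '' ↑((List.range 128).filter fun i => inv2 i && Nat.blt i 32).toFinset := by
      rintro _ ⟨a, ha, rfl⟩
      obtain ⟨b, hb, e⟩ := K.surj _ (hc a ha)
      have h2 : inv2 b = true := (K.sq_one_iff hb).1 (by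
        rw [e, show c * a * c⁻¹ * (c * a * c⁻¹) = c * (a * a) * c⁻¹ by group, (K.out_elementary hi' ho ha).1]; group)
      have hlt : b < 32 := by
        by_contra hge
        exact hcon a ha b hb (by simp only [isOut, h2, Bool.true_and, Nat.ble_eq]; omega) e
      refine ⟨b, ?_, e⟩
      simp only [List.coe_toFinset, Set.mem_ofPred_eq, List.mem_filter, List.mem_range, Bool.and_eq_true, h2,
        Nat.blt_eq, true_and]
      exact ⟨hb, hlt⟩
    have h1 := Set.ncard_le_ncard hsub (Set.toFinite _)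
    rw [Set.InjOn.ncard_image (fun a _ b _ e => mul_left_cancel (mul_right_cancel e)), ← Nat.card_coe_set_eq,
      show Nat.card ↥(X : Set G) = Nat.card X from rfl, hXc] at h1
    have h2 := h1.trans ((Set.ncard_image_le (Set.toFinite _)).trans_eq (Set.ncard_coe_finset _))
    rw [List.toFinset_card_of_nodup (List.nodup_range.filter _), low_count] at h2
    omega
  set Y := (S : Subgroup G) ⊓ Subgroup.centralizer ({φ b} : Set G) with hY
  have hXY : ∀ a ∈ X, c * a * c⁻¹ ∈ Y := fun a ha => ⟨hc a ha, Subgroup.mem_centralizer_singleton_iff.2 (by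
    rw [hab]
    calc c * a * c⁻¹ * (c * a₀ * c⁻¹) = c * (a * a₀) * c⁻¹ := by group
      _ = c * (a₀ * a) * c⁻¹ := by rw [(K.out_elementary hi' ho ha).2 a₀ ha₀]
      _ = _ := by group)⟩
  obtain ⟨p, hp, hpa⟩ : ∃ p < 128, ∀ a ∈ cen b, cjT p a ∈ cen i := by
    have hk := two_kinds
    simp only [List.all_eq_true, List.mem_range, Bool.or_eq_true, Bool.not_eq_true', beq_iff_eq] at hk
    have hs := swap_ok
    simp only [List.all_eq_true, List.any_eq_true, List.mem_range, mem_isA] at hs
    have hid : ∀ j < 128, ∀ a ∈ cen j, cjT 0 a ∈ cen j := fun j hj a ha => by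
      have h0 : ((List.range 128).all fun a => cjT 0 a == a) = true := by decide +kernel
      simp only [List.all_eq_true, List.mem_range, beq_iff_eq] at h0
      have : a < 128 := by simp only [cen, List.mem_filter, List.mem_range] at ha; exact ha.1
      rw [h0 a this]; exact ha
    simp only [List.mem_cons, List.not_mem_nil, or_false] at hi
    rcases hk b hb with (h | h) | h
    · rw [hbo] at h; exact Bool.noConfusion h
    all_goals rcases hi with rfl | rfl
    · exact ⟨0, by norm_num, fun a ha => hid 32 (by norm_num) a (h ▸ ha)⟩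
    · obtain ⟨p, hp, hpp⟩ := hs.1; exact ⟨p, hp, fun a ha => hpp a (h ▸ ha)⟩
    · obtain ⟨p, hp, hpp⟩ := hs.2; exact ⟨p, hp, fun a ha => hpp a (h ▸ ha)⟩
    · exact ⟨0, by norm_num, fun a ha => hid 38 (by norm_num) a (h ▸ ha)⟩
  refine ⟨φ p, K.mem p hp, fun a ha => ?_⟩
  obtain ⟨j, hj, e⟩ := (K.mem_cent hb).1 (hXY a ha)
  have hj' : j < 128 := by simp only [cen, List.mem_filter, List.mem_range] at hj; exact hj.1
  refine (K.mem_cent hi').2 ⟨_, hpa j hj, ?_⟩
  rw [K.conj_eq hp hj', e]; group

/-- **Outside involutions are not conjugate to those of the second centre.** -/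
theorem out_not_conj (hz : ∀ g : G, φ 1 * g = g * φ 1) {i : ℕ} (hi : i < 128) (ho : isOut i = true) (g : G) :
    g * φ i * g⁻¹ ≠ φ 30 ∧ g * φ i * g⁻¹ ≠ φ 31 := by
  haveI := Fact.mk Nat.prime_two
  suffices key : ∀ k ∈ [32, 38], ∀ b : G, b ∈ (S : Subgroup G) ⊓ Subgroup.centralizer ({φ k} : Set G) →
      ∀ g : G, (g * b * g⁻¹ = φ 30 ∨ g * b * g⁻¹ = φ 31) → b = φ 30 ∨ b = φ 31 by
    have hb : φ i ∈ (S : Subgroup G) ⊓ Subgroup.centralizer ({φ i} : Set G) :=
      ⟨K.mem i hi, Subgroup.mem_centralizer_singleton_iff.2 rfl⟩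
    have hk := two_kinds
    simp only [List.all_eq_true, List.mem_range, Bool.or_eq_true, Bool.not_eq_true', beq_iff_eq] at hk
    obtain ⟨k, hk', hik⟩ : ∃ k ∈ [32, 38], φ i ∈ (S : Subgroup G) ⊓ Subgroup.centralizer ({φ k} : Set G) := by
      obtain ⟨j, hj, e⟩ := (K.mem_cent hi).1 hb
      rcases hk i hi with (h | h) | h
      · rw [ho] at h; exact Bool.noConfusion h
      · exact ⟨32, by simp, (K.mem_cent (by norm_num)).2 ⟨j, h ▸ hj, e⟩⟩
      · exact ⟨38, by simp, (K.mem_cent (by norm_num)).2 ⟨j, h ▸ hj, e⟩⟩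
    have hne : φ i ≠ φ 30 ∧ φ i ≠ φ 31 := by
      have : 32 ≤ i := (by simpa [isOut] using ho : inv2 i = true ∧ 32 ≤ i).2
      exact ⟨fun e => by have := K.inj i hi 30 (by norm_num) e; omega,
        fun e => by have := K.inj i hi 31 (by norm_num) e; omega⟩
    refine ⟨fun e => ?_, fun e => ?_⟩
    · rcases key k hk' _ hik g (Or.inl e) with h | h
      exacts [hne.1 h, hne.2 h]
    · rcases key k hk' _ hik g (Or.inr e) with h | h
      exacts [hne.1 h, hne.2 h]
  intro k hk b hb g hg
  by_contra hcon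
  push Not at hcon
  have hk128 : k < 128 := by simp only [List.mem_cons, List.not_mem_nil, or_false] at hk; omega
  obtain ⟨hko, hk30, hk31, -⟩ := out_facts k hk
  set X := (S : Subgroup G) ⊓ Subgroup.centralizer ({φ k} : Set G) with hX
  obtain ⟨e, he, hge, hne1⟩ : ∃ e, isBig e = true ∧ g * b * g⁻¹ = φ e ∧ e < 128 := by
    rcases hg with h | h
    · exact ⟨30, rfl, h, by norm_num⟩
    · exact ⟨31, rfl, h, by norm_num⟩
  have he64 : Nat.card ↥((S : Subgroup G) ⊓ Subgroup.centralizer ({φ e} : Set G)) = 64 := by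
    rcases big_cases he with rfl | rfl <;> rw [K.card_cent hne1]
    · exact big_facts.1
    · exact big_facts.2.1
  have hez : φ e ≠ φ 1 := fun h => by
    rcases big_cases he with rfl | rfl <;> exact absurd (K.inj _ hne1 1 (by norm_num) h) (by norm_num)
  have he2 : orderOf (φ e) = 2 := by
    refine K.orderOf_two hne1 ?_ (by rintro rfl; simp [isBig] at he)
    rcases big_cases he with rfl | rfl
    · exact big_facts.2.2.1
    · exact big_facts.2.2.2.1
  -- move into the centraliser in `S`
  rcases into_or_grow (H := Subgroup.centralizer ({φ e} : Set G))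
    (X := (S : Subgroup G) ⊓ Subgroup.centralizer ({φ e} : Set G)) inf_le_right (S.2.to_le inf_le_left) with
    hI | ⟨y, hy, hyX, -, hP⟩
  swap
  · obtain ⟨c, hc, hc2, hlt⟩ := move_up K he2 hyX inf_le_right hy hP
    rw [he64] at hlt
    rcases K.large_cent hc2 (hc _ ⟨K.mem e hne1, Subgroup.mem_centralizer_singleton_iff.2 rfl⟩) (by omega) with h | h | h
    · apply hez
      calc φ e = c⁻¹ * (c * φ e * c⁻¹) * c := by group
        _ = φ 1 := by rw [h, mul_assoc, hz, inv_mul_cancel_left]
    · rw [h, K.card_cent (by norm_num), big_facts.1] at hlt; omega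
    · rw [h, K.card_cent (by norm_num), big_facts.2.1] at hlt; omega
  obtain ⟨c, hc, hcX⟩ := hI (X.map (MulAut.conj g).toMonoidHom) (by
      rintro _ ⟨a, ha, rfl⟩
      rw [Subgroup.mem_centralizer_singleton_iff, ← hge]
      simp only [MulEquiv.coe_toMonoidHom, MulAut.conj_apply]
      calc g * a * g⁻¹ * (g * b * g⁻¹) = g * (a * b) * g⁻¹ := by group
        _ = g * (b * a) * g⁻¹ := by rw [(K.out_elementary hk128 hko ha).2 b hb]
        _ = _ := by group) ((S.2.to_le inf_le_left).map _)
  have hcg : ∀ a ∈ X, (c * g) * a * (c * g)⁻¹ ∈ (S : Subgroup G) := fun a ha => by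
    have := (hcX _ ⟨a, ha, rfl⟩).1
    simp only [MulEquiv.coe_toMonoidHom, MulAut.conj_apply] at this
    rw [show (c * g) * a * (c * g)⁻¹ = c * (g * a * g⁻¹) * c⁻¹ by group]
    exact this
  obtain ⟨t, ht, hn⟩ := back K hk hcg
  set n := t * (c * g) with hndef
  have hce : c * φ e * c⁻¹ = φ e := mul_inv_eq_iff_eq_mul.2 (Subgroup.mem_centralizer_singleton_iff.1 hc)
  have hbig : ∀ p : G, p ∈ (S : Subgroup G) → ∀ x : G, (x = φ 30 ∨ x = φ 31) → (p * x * p⁻¹ = φ 30 ∨ p * x * p⁻¹ = φ 31) := by
    intro p hp x hx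
    obtain ⟨j, hj, rfl⟩ := K.surj p hp
    have h := fix_big
    simp only [List.all_eq_true, List.mem_range, Bool.and_eq_true] at h
    rcases hx with rfl | rfl <;> rw [← K.conj_eq hj (by norm_num)]
    · rcases big_cases (h j hj).1 with h' | h' <;> simp [h']
    · rcases big_cases (h j hj).2 with h' | h' <;> simp [h']
  have hnb : n * b * n⁻¹ = φ 30 ∨ n * b * n⁻¹ = φ 31 := by
    rw [hndef, show t * (c * g) * b * (t * (c * g))⁻¹ = t * (c * (g * b * g⁻¹) * c⁻¹) * t⁻¹ by group, hge, hce]
    refine hbig t ht _ ?_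
    rcases big_cases he with rfl | rfl
    · exact Or.inl rfl
    · exact Or.inr rfl
  have hnN : n ∈ Subgroup.normalizer (X : Set G) := A8ThreeClass.mem_normalizer_of_conj hn
  have h30X : φ 30 ∈ X := (K.mem_cent hk128).2 ⟨30, mem_isA.1 hk30, rfl⟩
  have h31X : φ 31 ∈ X := (K.mem_cent hk128).2 ⟨31, mem_isA.1 hk31, rfl⟩
  -- the subgroup fixing the pair
  let Bg : Set G := {φ 30, φ 31}
  set T := Subgroup.normalizer (X : Set G) ⊓ Subgroup.normalizer Bg with hT
  have hTB : ∀ m : G, (∀ x ∈ Bg, m * x * m⁻¹ ∈ Bg) → m ∈ Subgroup.normalizer Bg := by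
    intro m hm
    refine Subgroup.mem_set_normalizer_iff.2 fun x => ⟨hm x, fun hx => ?_⟩
    have hd : φ 30 ≠ φ 31 := fun e => absurd (K.inj 30 (by norm_num) 31 (by norm_num) e) (by norm_num)
    have h0 : m * φ 30 * m⁻¹ ≠ m * φ 31 * m⁻¹ := fun e => hd (mul_left_cancel (mul_right_cancel e))
    have a := hm (φ 30) (Or.inl rfl)
    have b := hm (φ 31) (Or.inr rfl)
    simp only [Bg, Set.mem_insert_iff, Set.mem_singleton_iff] at a b hx ⊢
    rcases a with a | a <;> rcases b with b | b
    · exact absurd (a.trans b.symm) h0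
    · rcases hx with hx | hx
      · exact Or.inl (mul_left_cancel (mul_right_cancel (hx.trans a.symm)))
      · exact Or.inr (mul_left_cancel (mul_right_cancel (hx.trans b.symm)))
    · rcases hx with hx | hx
      · exact Or.inr (mul_left_cancel (mul_right_cancel (hx.trans b.symm)))
      · exact Or.inl (mul_left_cancel (mul_right_cancel (hx.trans a.symm)))
    · exact absurd (a.trans b.symm) h0
  set P0 := (S : Subgroup G) ⊓ Subgroup.normalizer (X : Set G) with hP0
  have hP0T : P0 ≤ T := fun p hp => ⟨hp.2, hTB p fun x hx => hbig p hp.1 x hx⟩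
  have hP02 : IsPGroup 2 P0 := S.2.to_le inf_le_left
  have hIT : Into T P0 := by
    rcases into_or_grow hP0T hP02 with h | ⟨y, hy, hyP, -, hP⟩
    · exact h
    exfalso
    obtain ⟨d, -, hd⟩ := into_top S _ le_top hP
    have hXP : ∀ a ∈ X, a ∈ P0 := fun a ha => ⟨ha.1, Subgroup.le_normalizer ha⟩
    obtain ⟨s, hs, hsd⟩ := back K hk (c := d) fun a ha => hd a (Subgroup.mem_sup_left (hXP a ha))
    have hle : Nat.card ↥(P0 ⊔ Subgroup.zpowers y) ≤ Nat.card P0 := by
      refine M24Syl.card_le_of_conj_mem (c := s * d) fun a ha => ⟨?_, ?_⟩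
      · show s * d * a * (s * d)⁻¹ ∈ (S : Subgroup G)
        rw [show s * d * a * (s * d)⁻¹ = s * (d * a * d⁻¹) * s⁻¹ by group]
        exact mul_mem (mul_mem hs (hd a ha)) (inv_mem hs)
      · show s * d * a * (s * d)⁻¹ ∈ Subgroup.normalizer (X : Set G)
        refine mul_mem (mul_mem (A8ThreeClass.mem_normalizer_of_conj hsd) ?_)
          (inv_mem (A8ThreeClass.mem_normalizer_of_conj hsd))
        exact sup_le (fun p hp => hp.2) (Subgroup.zpowers_le.2 hy.1) ha
    have := card_lt_of_grow hyP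
    omega
  -- the element
  obtain ⟨r, hr, hnr⟩ : ∃ r ∈ cen k, n * φ r * n⁻¹ = φ 30 := by
    obtain ⟨j, hj, e⟩ := (K.mem_cent hk128).1 ((Subgroup.mem_normalizer_iff.1 (inv_mem hnN) (φ 30)).1 h30X)
    exact ⟨j, hj, by rw [e]; group⟩
  have hr' : r < 128 := by simp only [cen, List.mem_filter, List.mem_range] at hr; exact hr.1
  have hback := back_ok k hk
  simp only [List.all_eq_true, List.any_eq_true, List.mem_range, Bool.and_eq_true, Bool.or_eq_true, beq_iff_eq] at hback
  obtain ⟨y, hy, ⟨hyn, hyr⟩, a, ha, hya⟩ := hback r hr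
  have ha' : a < 128 := by simp only [cen, List.mem_filter, List.mem_range] at ha; exact ha.1
  have hyN : φ y ∈ Subgroup.normalizer (X : Set G) := by
    refine A8ThreeClass.mem_normalizer_of_conj fun x hx => ?_
    obtain ⟨j, hj, rfl⟩ := (K.mem_cent hk128).1 hx
    simp only [normA, List.all_eq_true, mem_isA] at hyn
    exact (K.mem_cent hk128).2 ⟨_, hyn j hj, K.conj_eq hy (by simp only [cen, List.mem_filter, List.mem_range] at hj; exact hj.1)⟩
  set w := n * φ y * n⁻¹ with hw
  have hw30 : w * φ 30 * w⁻¹ = φ 30 ∨ w * φ 30 * w⁻¹ = φ 31 := by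
    have e : w * φ 30 * w⁻¹ = n * φ (cjT y r) * n⁻¹ := by rw [hw, K.conj_eq hy hr', ← hnr]; group
    rcases hyr with h | h <;> rw [e, h]
    · exact Or.inl hnr
    · right
      rw [K.mul 1 (by norm_num) r hr', show n * (φ 1 * φ r) * n⁻¹ = n * φ 1 * n⁻¹ * (n * φ r * n⁻¹) by group,
        hnr, ← hz n, mul_inv_cancel_right, ← K.big_mul.1]
  have hwT : w ∈ T := by
    refine ⟨Subgroup.mul_mem _ (Subgroup.mul_mem _ hnN hyN) (Subgroup.inv_mem _ hnN), hTB w fun x hx => ?_⟩
    have e : w * φ 31 * w⁻¹ = φ 1 * (w * φ 30 * w⁻¹) := by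
      rw [K.big_mul.1, show w * (φ 1 * φ 30) * w⁻¹ = w * φ 1 * w⁻¹ * (w * φ 30 * w⁻¹) by group, ← hz w,
        mul_inv_cancel_right]
    rcases hx with rfl | rfl
    · exact hw30
    · rw [e]
      rcases hw30 with h | h <;> rw [h]
      · exact Or.inr K.big_mul.1.symm
      · exact Or.inl K.big_mul.2.symm
  obtain ⟨d, hd, hdw⟩ := hIT (Subgroup.zpowers w) (Subgroup.zpowers_le.2 hwT) (by
    refine (S.2.map (MulAut.conj n).toMonoidHom).to_le (Subgroup.zpowers_le.2 ?_)
    exact ⟨φ y, K.mem y hy, rfl⟩)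
  have hw' := hdw w (Subgroup.mem_zpowers w)
  obtain ⟨p, hp, hpe⟩ := K.surj _ hw'.1
  have hxa : d * (n * φ a * n⁻¹) * d⁻¹ ∈ X :=
    (Subgroup.mem_normalizer_iff.1 hd.1 _).1 ((Subgroup.mem_normalizer_iff.1 hnN _).1
      ((K.mem_cent hk128).2 ⟨a, ha, rfl⟩))
  obtain ⟨q, hq, hqe⟩ := (K.mem_cent hk128).1 hxa
  have hq' : q < 128 := by simp only [cen, List.mem_filter, List.mem_range] at hq; exact hq.1
  have hpn : normA k p = true := by
    simp only [normA, List.all_eq_true, mem_isA]
    intro j hj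
    have hj' : j < 128 := by simp only [cen, List.mem_filter, List.mem_range] at hj; exact hj.1
    obtain ⟨j', hj'', ej⟩ := (K.mem_cent hk128).1
      ((Subgroup.mem_normalizer_iff.1 hw'.2 _).1 ((K.mem_cent hk128).2 ⟨j, hj, rfl⟩))
    rw [← hpe, ← K.conj_eq hp hj'] at ej
    have := K.inj j' (by simp only [cen, List.mem_filter, List.mem_range] at hj''; exact hj''.1) _ (cjT_lt hp hj') ej
    exact this ▸ hj''
  have hsh := shift_ok k hk
  simp only [List.all_eq_true, List.mem_range, Bool.or_eq_true, Bool.not_eq_true', beq_iff_eq] at hsh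
  set D := n * φ (cjT y a) * n⁻¹ * (n * φ a * n⁻¹)⁻¹ with hD
  -- the commutator lies in the second centre
  have hDd : d * D * d⁻¹ = φ (cjT p q) * (φ q)⁻¹ := by
    rw [K.conj_eq hp hq', hpe, hqe, hD, K.conj_eq hy ha', hw]; group
  have hD' : d * D * d⁻¹ = 1 ∨ d * D * d⁻¹ = φ 1 ∨ d * D * d⁻¹ = φ 30 ∨ d * D * d⁻¹ = φ 31 := by
    rcases hsh p hp with h | h
    · rw [hpn] at h; exact Bool.noConfusion h
    rcases h q hq with ((h | h) | h) | h <;> rw [hDd, h]
    · exact Or.inl (mul_inv_cancel _)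
    all_goals rw [K.mul _ (by norm_num) q hq', mul_inv_cancel_right]
    · exact Or.inr (Or.inl rfl)
    · exact Or.inr (Or.inr (Or.inl rfl))
    · exact Or.inr (Or.inr (Or.inr rfl))
  obtain ⟨l, hl, hlD⟩ : ∃ l, (φ l = φ 30 ∨ φ l = φ 31) ∧ D = n * φ l * n⁻¹ := by
    rcases hya with h | h
    · exact ⟨30, Or.inl rfl, by rw [hD, h, K.mul _ (by norm_num) a ha']; group⟩
    · exact ⟨31, Or.inr rfl, by rw [hD, h, K.mul _ (by norm_num) a ha']; group⟩
  have hD2 : D = φ 30 ∨ D = φ 31 := by
    have hnD : D ≠ 1 ∧ D ≠ φ 1 := by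
      have hl1 : φ l ≠ 1 ∧ φ l ≠ φ 1 := by
        rcases hl with h | h <;> rw [h]
        all_goals refine ⟨fun e => absurd ((K.eq_one_iff (by norm_num)).1 e) (by norm_num),
          fun e => absurd (K.inj _ (by norm_num) 1 (by norm_num) e) (by norm_num)⟩
      refine ⟨fun e => hl1.1 (conj_eq_one_iff.1 (hlD.symm.trans e)), fun e => hl1.2 ?_⟩
      refine mul_left_cancel (mul_right_cancel ((hlD.symm.trans e).trans ?_))
      rw [← hz n, mul_inv_cancel_right]
    rcases hD' with h | h | h | h
    · exact absurd (conj_eq_one_iff.1 h) hnD.1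
    · refine absurd ?_ hnD.2
      refine mul_left_cancel (mul_right_cancel (h.trans ?_))
      rw [← hz d, mul_inv_cancel_right]
    · exact (Subgroup.mem_set_normalizer_iff.1 hd.2 D).2 (Or.inl h)
    · exact (Subgroup.mem_set_normalizer_iff.1 hd.2 D).2 (Or.inr h)
  -- hence `b` would be in the second centre
  have hconj : ∀ u v : G, (u = φ 30 ∨ u = φ 31) → (v = φ 30 ∨ v = φ 31) → u = v ∨ u = φ 1 * v := by
    rintro u v (rfl | rfl) (rfl | rfl)
    · exact Or.inl rfl
    · exact Or.inr K.big_mul.2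
    · exact Or.inr K.big_mul.1
    · exact Or.inl rfl
  rcases hconj _ _ hnb hD2 with h | h <;> rw [hlD] at h
  · have hb' : b = φ l := mul_left_cancel (mul_right_cancel h)
    rcases hl with e | e
    · exact hcon.1 (hb'.trans e)
    · exact hcon.2 (hb'.trans e)
  · have hb' : b = φ 1 * φ l := mul_left_cancel (mul_right_cancel (h.trans (by rw [← mul_assoc n, ← hz n]; group)))
    rcases hl with e | e
    · exact hcon.2 (by rw [hb', e, ← K.big_mul.1])
    · exact hcon.1 (by rw [hb', e, ← K.big_mul.2])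

end CfsgLib.J2Cent
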